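import Groth.Agent.Lib.GenFree.Presentation
import Mathlib.RingTheory.Ideal.AssociatedPrime.Finiteness
import Mathlib.RingTheory.Flat.Basic
import Mathlib.LinearAlgebra.TensorProduct.Tower
import Mathlib.LinearAlgebra.TensorProduct.Pi
import Mathlib.Algebra.Module.Torsion.Basic

/-!
# Separating families of linear maps and flat base change (EGA IV 11.9.5, 11.10.5)
-/

set_option autoImplicit false
set_option linter.style.haveILetI false
universe u

namespace GrothLib.Separ

open TensorProduct

variable {B M : Type u} [CommRing B] [AddCommGroup M] [Module B M] {ι : Type u} {N : ι → Type u}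
  [∀ j, AddCommGroup (N j)] [∀ j, Module B (N j)]

/-- The family separates the associated sheaf: an element whose images vanish on `D(g)` vanishes
on `D(g)`. -/
def Sep (ψ : ∀ j, M →ₗ[B] N j) : Prop :=
  ∀ (g : B) (x : M), (∀ j, ∃ n : ℕ, g ^ n • ψ j x = 0) → ∃ n : ℕ, g ^ n • x = 0

theorem Sep.eq_zero {ψ : ∀ j, M →ₗ[B] N j} (h : Sep ψ) {x : M} (hx : ∀ j, ψ j x = 0) : x = 0 := by
  obtain ⟨n, hn⟩ := h 1 x fun j => ⟨0, by rw [pow_zero, one_smul, hx]⟩
  rwa [one_pow, one_smul] at hn

theorem Sep.comp {M' : Type u} [AddCommGroup M'] [Module B M'] {ψ : ∀ j, M →ₗ[B] N j} (h : Sep ψ)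
    (i : M' →ₗ[B] M) (hi : Function.Injective i) : Sep fun j => (ψ j).comp i := fun g x hx => by
  obtain ⟨n, hn⟩ := h g (i x) hx
  exact ⟨n, hi (by rw [map_smul, hn, map_zero])⟩

/-- A freeness lemma: families separating on `D(g)` stay separating after a base change free
there. -/
theorem pow_smul_eq_zero_of_free {ψ : ∀ j, M →ₗ[B] N j} (h : Sep ψ) (g : B) {C : Type u} [CommRing C]
    [Algebra B C] (Q : Type u) [CommRing Q] [Algebra B Q] [Module.Free C (C ⊗[B] Q)]
    [IsLocalization.Away g C]
    (z : Q ⊗[B] M) (hz : ∀ j, (ψ j).baseChange Q z = 0) : ∃ n : ℕ, algebraMap B Q g ^ n • z = 0 := by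
  classical
  have hloc : ∀ (V : Type u) [AddCommGroup V] [Module B V],
      IsLocalizedModule (Submonoid.powers g) (TensorProduct.mk B C V 1) := fun V _ _ =>
    (isLocalizedModule_iff_isBaseChange (Submonoid.powers g) C _).mpr (TensorProduct.isBaseChange B V C)
  haveI := hloc M
  haveI := hloc Q
  let b := Module.Free.chooseBasis C (C ⊗[B] Q)
  -- the image in `(C ⊗ Q) ⊗ (C ⊗ M)`
  let eT : (C ⊗[B] Q) ⊗[C] (C ⊗[B] M) ≃ₗ[C] (C ⊗[B] Q) ⊗[B] M :=
    TensorProduct.AlgebraTensorModule.cancelBaseChange B C C (C ⊗[B] Q) M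
  let z' : (C ⊗[B] Q) ⊗[C] (C ⊗[B] M) :=
    eT.symm (((TensorProduct.mk B C Q 1).rTensor M) z)
  have hcoef : z' = 0 := by
    obtain ⟨l, hl⟩ := TensorProduct.eq_repr_basis_left b z'
    have hl0 : ∀ e, l e = 0 := by
      intro e
      obtain ⟨⟨x, s⟩, hx⟩ := IsLocalizedModule.surj (Submonoid.powers g) (TensorProduct.mk B C M 1) (l e)
      obtain ⟨⟨_, m, rfl⟩⟩ : Nonempty (Submonoid.powers g) := ⟨s⟩
      have hψl : ∀ j, (ψ j).baseChange C (l e) = 0 := by
        intro j
        have h1 : ((ψ j).baseChange C).lTensor (C ⊗[B] Q) z' = 0 := by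
          let eN : (C ⊗[B] Q) ⊗[C] (C ⊗[B] N j) ≃ₗ[C] (C ⊗[B] Q) ⊗[B] N j :=
            TensorProduct.AlgebraTensorModule.cancelBaseChange B C C (C ⊗[B] Q) (N j)
          have hnat : ∀ w, eN (((ψ j).baseChange C).lTensor (C ⊗[B] Q) w) =
              (ψ j).lTensor (C ⊗[B] Q) (eT w) := fun w => by
            induction w using TensorProduct.induction_on with
            | zero => simp
            | add p q hp hq => simp only [map_add, hp, hq]
            | tmul p q =>
              induction q using TensorProduct.induction_on with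
              | zero => simp
              | add q q' hq hq' => simp only [tmul_add, map_add, hq, hq']
              | tmul c m => simp [eN, eT, smul_tmul']
          apply eN.injective
          rw [hnat, map_zero, show eT z' = ((TensorProduct.mk B C Q 1).rTensor M) z from
            eT.apply_symm_apply _, ← LinearMap.comp_apply, LinearMap.lTensor_comp_rTensor,
            ← LinearMap.rTensor_comp_lTensor, LinearMap.comp_apply]
          rw [show (ψ j).lTensor Q z = 0 from hz j, map_zero]
        rw [← hl, map_finsuppSum] at h1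
        simp only [LinearMap.lTensor_tmul] at h1
        have h2 := congrArg (fun w => (TensorProduct.equivFinsuppOfBasisLeft b w) e) h1
        simp only [map_finsuppSum, map_zero, Finsupp.zero_apply] at h2
        rw [Finsupp.sum_apply] at h2
        simp only [TensorProduct.equivFinsuppOfBasisLeft_apply_tmul_apply, Module.Basis.repr_self,
          Finsupp.single_apply, ite_smul, one_smul, zero_smul] at h2
        rw [Finsupp.sum_ite_eq'] at h2
        split at h2
        · exact h2
        · rename_i he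
          rw [Finsupp.notMem_support_iff.mp he, map_zero]
      have hg : ∀ j, ∃ n : ℕ, g ^ n • ψ j x = 0 := by
        intro j
        have h2 : (TensorProduct.mk B C (N j) 1) (ψ j x) = 0 := by
          show (1 : C) ⊗ₜ[B] ψ j x = 0
          rw [← LinearMap.baseChange_tmul, show (1 : C) ⊗ₜ[B] x = (s : B) • l e from hx.symm,
            LinearMap.map_smul_of_tower, hψl, smul_zero]
        haveI := hloc (N j)
        obtain ⟨⟨_, n, rfl⟩, hn⟩ := (IsLocalizedModule.eq_zero_iff (Submonoid.powers g) _).mp h2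
        exact ⟨n, hn⟩
      obtain ⟨n, hn⟩ := h g x hg
      have h3 : (s : B) • l e = 0 := by
        rw [show (s : B) • l e = (1 : C) ⊗ₜ[B] x from hx]
        exact (IsLocalizedModule.eq_zero_iff (Submonoid.powers g) (TensorProduct.mk B C M 1)).mpr
          ⟨⟨_, n, rfl⟩, hn⟩
      exact ((Module.End.isUnit_iff _).mp (IsLocalizedModule.map_units (S := Submonoid.powers g)
        (TensorProduct.mk B C M 1) s)).1 (h3.trans (map_zero _).symm)
    rw [← hl, show l = 0 from Finsupp.ext hl0, Finsupp.sum_zero_index]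
  have h0 : TensorProduct.AlgebraTensorModule.rTensor B M (TensorProduct.mk B C Q 1) z = 0 := by
    have h1 := congrArg eT hcoef
    rw [map_zero, show eT z' = ((TensorProduct.mk B C Q 1).rTensor M) z from eT.apply_symm_apply _] at h1
    exact h1
  obtain ⟨⟨_, n, rfl⟩, hn⟩ := (IsLocalizedModule.eq_zero_iff (Submonoid.powers g)
    (TensorProduct.AlgebraTensorModule.rTensor B M (TensorProduct.mk B C Q 1))).mp h0
  exact ⟨n, by rw [← map_pow, algebraMap_smul]; exact hn⟩

/-- The elements killed by an ideal form the kernel of finitely many multiplications. -/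
theorem exists_kernel_smul [IsNoetherianRing B] (p : Ideal B) : ∃ (r : ℕ) (a : Fin r → B),
    (∀ i, a i ∈ p) ∧ ∀ (V : Type u) [AddCommGroup V] [Module B V] (v : V),
      v ∈ LinearMap.ker (LinearMap.pi fun i => LinearMap.lsmul B V (a i)) ↔ ∀ c ∈ p, c • v = 0 := by
  obtain ⟨r, a, ha⟩ := Submodule.fg_iff_exists_fin_generating_family.mp (IsNoetherian.noetherian p)
  refine ⟨r, a, fun i => ha ▸ Submodule.subset_span ⟨i, rfl⟩, fun V _ _ v => ?_⟩
  rw [LinearMap.mem_ker]
  constructor
  · intro h c hc
    rw [← ha] at hc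
    induction hc using Submodule.span_induction with
    | mem x hx =>
      obtain ⟨i, rfl⟩ := hx
      exact congrFun h i
    | zero => exact zero_smul _ _
    | add x y _ _ hx hy => rw [add_smul, hx, hy, add_zero]
    | smul c x _ hx => rw [smul_eq_mul, mul_smul, hx, smul_zero]
  · exact fun h => funext fun i => h (a i) (ha ▸ Submodule.subset_span ⟨i, rfl⟩)

set_option maxHeartbeats 1000000 in
/-- **A separating family stays injective after a flat base change of finite type.** -/
theorem eq_zero_of_flat_finiteType [IsNoetherianRing B] [Module.Finite B M]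
    {ψ : ∀ j, M →ₗ[B] N j} (hψ : Sep ψ) (Q : Type u) [CommRing Q] [Algebra B Q]
    [Algebra.FiniteType B Q] [Module.Flat B Q] (z : Q ⊗[B] M)
    (hz : ∀ j, (ψ j).baseChange Q z = 0) : z = 0 := by
  classical
  by_contra hne
  haveI : IsNoetherianRing Q := Algebra.FiniteType.isNoetherianRing B Q
  let K : Submodule Q (Q ⊗[B] M) := ⨅ j, LinearMap.ker ((ψ j).baseChange Q)
  haveI : Nontrivial K :=
    ⟨⟨⟨z, (Submodule.mem_iInf _).mpr hz⟩, 0, fun h => hne (congrArg Subtype.val h)⟩⟩
  obtain ⟨P, hP⟩ := associatedPrimes.nonempty Q K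
  obtain ⟨hPp, w, hw⟩ := isAssociatedPrime_iff.mp hP
  haveI := hPp
  let p := P.comap (algebraMap B Q)
  have hker : ∀ j, (ψ j).baseChange Q (w : Q ⊗[B] M) = 0 :=
    fun j => (Submodule.mem_iInf _).mp w.2 j
  have hpw : ∀ c ∈ p, c • (w : Q ⊗[B] M) = 0 := fun c hc => by
    have h1 : algebraMap B Q c ∈ (⊥ : Submodule Q K).colon {w} := hw ▸ hc
    rw [Submodule.mem_colon_singleton, Submodule.mem_bot] at h1
    rw [← algebraMap_smul Q c]
    exact congrArg Subtype.val h1
  -- `w` comes from the elements killed by `p`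
  obtain ⟨r, a, ha, hdel⟩ := exists_kernel_smul (B := B) p
  let δ : M →ₗ[B] Fin r → M := LinearMap.pi fun i => LinearMap.lsmul B M (a i)
  let δN : ∀ j, N j →ₗ[B] Fin r → N j := fun j => LinearMap.pi fun i => LinearMap.lsmul B (N j) (a i)
  obtain ⟨w₁, hw₁⟩ : (w : Q ⊗[B] M) ∈ Set.range ((LinearMap.ker δ).subtype.lTensor Q) := by
    refine (Module.Flat.lTensor_exact Q (LinearMap.exact_subtype_ker_map δ) _).mp ?_
    apply (TensorProduct.piRight B B Q (fun _ : Fin r => M)).injective
    rw [map_zero]
    funext i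
    refine Eq.trans ?_ (hpw (a i) (ha i))
    generalize (w : Q ⊗[B] M) = v
    induction v using TensorProduct.induction_on with
    | zero => simp
    | add b c hb hc => simp only [map_add, Pi.add_apply, smul_add, hb, hc]
    | tmul q m => simp [δ, TensorProduct.tmul_smul]
  -- the family on the elements killed by `p`
  have hmem : ∀ j (x : LinearMap.ker δ), ψ j x.1 ∈ LinearMap.ker (δN j) := fun j x =>
    (hdel (N j) _).mpr fun c hc => by rw [← map_smul, (hdel M _).mp x.2 c hc, map_zero]
  let ψ₁ : ∀ j, LinearMap.ker δ →ₗ[B] LinearMap.ker (δN j) := fun j =>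
    ((ψ j).comp (LinearMap.ker δ).subtype).codRestrict _ (hmem j)
  have hψ₁ : Sep ψ₁ := fun g x hx => by
    obtain ⟨n, hn⟩ := hψ.comp (LinearMap.ker δ).subtype Subtype.val_injective g x fun j => by
      obtain ⟨n, hn⟩ := hx j
      exact ⟨n, congrArg Subtype.val hn⟩
    exact ⟨n, hn⟩
  have hker₁ : ∀ j, (ψ₁ j).baseChange Q w₁ = 0 := by
    intro j
    apply Module.Flat.lTensor_preserves_injective_linearMap (M := Q) (LinearMap.ker (δN j)).subtype
      Subtype.val_injective
    rw [map_zero]
    refine Eq.trans ?_ (hker j)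
    rw [← hw₁]
    clear hw₁
    induction w₁ using TensorProduct.induction_on with
    | zero => simp
    | add b c hb hc => simp only [map_add, hb, hc]
    | tmul q m => rfl
  -- generic freeness over `B / p`
  let R := B ⧸ p
  letI : Module R (LinearMap.ker δ) := Module.IsTorsionBySet.module (I := p)
    fun x c => Subtype.ext ((hdel M _).mp x.2 c.1 c.2)
  letI : ∀ j, Module R (LinearMap.ker (δN j)) := fun j => Module.IsTorsionBySet.module (I := p)
    fun x c => Subtype.ext ((hdel (N j) _).mp x.2 c.1 c.2)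
  haveI : IsScalarTower B R (LinearMap.ker δ) := IsScalarTower.of_algebraMap_smul fun _ _ => rfl
  haveI : ∀ j, IsScalarTower B R (LinearMap.ker (δN j)) :=
    fun j => IsScalarTower.of_algebraMap_smul fun _ _ => rfl
  let ψR : ∀ j, LinearMap.ker δ →ₗ[R] LinearMap.ker (δN j) :=
    fun j => (ψ₁ j).extendScalarsOfSurjective Ideal.Quotient.mk_surjective
  have hψR : Sep ψR := fun g x hx => by
    obtain ⟨g, rfl⟩ := Ideal.Quotient.mk_surjective g
    obtain ⟨n, hn⟩ := hψ₁ g x fun j => by
      obtain ⟨n, hn⟩ := hx j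
      rw [← map_pow] at hn
      exact ⟨n, hn⟩
    exact ⟨n, by rw [← map_pow]; exact hn⟩
  obtain ⟨g', -, hg', -, hfree, -, -⟩ := GenFree.exists_free_and_finitePresentation (R := R)
    (R ⊗[B] Q) (R ⊗[B] Q) (1 : R) one_ne_zero
  haveI := hfree
  let e' : (R ⊗[B] Q) ⊗[R] LinearMap.ker δ ≃ₗ[R] LinearMap.ker δ ⊗[B] Q :=
    TensorProduct.comm R _ _ ≪≫ₗ TensorProduct.AlgebraTensorModule.cancelBaseChange B R R _ Q
  let e : Q ⊗[B] LinearMap.ker δ →ₗ[B] (R ⊗[B] Q) ⊗[R] LinearMap.ker δ :=
    (TensorProduct.comm B Q _ ≪≫ₗ (e'.restrictScalars B).symm).toLinearMap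
  have he' : ∀ v, e' (e v) = TensorProduct.comm B Q _ v := fun v => e'.apply_symm_apply _
  have hkR : ∀ j, (ψR j).baseChange (R ⊗[B] Q) (e w₁) = 0 := fun j => by
    let eN' : (R ⊗[B] Q) ⊗[R] LinearMap.ker (δN j) ≃ₗ[R] LinearMap.ker (δN j) ⊗[B] Q :=
      TensorProduct.comm R _ _ ≪≫ₗ TensorProduct.AlgebraTensorModule.cancelBaseChange B R R _ Q
    apply eN'.injective
    have hnat : ∀ v, eN' ((ψR j).baseChange (R ⊗[B] Q) v) = (ψ₁ j).rTensor Q (e' v) := fun v => by
      induction v using TensorProduct.induction_on with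
      | zero => simp
      | add b c hb hc => simp only [map_add, hb, hc]
      | tmul d m =>
        induction d using TensorProduct.induction_on with
        | zero => simp
        | add b c hb hc => simp only [add_tmul, map_add, hb, hc]
        | tmul c q =>
          simp only [eN', e', LinearMap.baseChange_tmul, LinearEquiv.trans_apply, TensorProduct.comm_tmul,
            TensorProduct.AlgebraTensorModule.cancelBaseChange_tmul, LinearMap.rTensor_tmul, ← map_smul]
          rfl
    rw [hnat, he', map_zero]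
    refine Eq.trans ?_ ((congrArg (TensorProduct.comm B Q _) (hker₁ j)).trans (map_zero _))
    clear hker₁ hw₁
    induction w₁ using TensorProduct.induction_on with
    | zero => simp
    | add b c hb hc => simp only [map_add, hb, hc]
    | tmul q m => rfl
  obtain ⟨n, hn⟩ := pow_smul_eq_zero_of_free hψR g' (C := Localization.Away g') (R ⊗[B] Q) (e w₁) hkR
  obtain ⟨g, rfl⟩ := Ideal.Quotient.mk_surjective g'
  have hgw : g ^ n • w₁ = 0 := by
    apply (TensorProduct.comm B Q (LinearMap.ker δ)).injective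
    rw [← he', map_smul, map_zero, ← algebraMap_smul R (g ^ n) (e w₁),
      ← algebraMap_smul (R ⊗[B] Q) (algebraMap B R (g ^ n)), map_pow, map_pow]
    exact (congrArg e' hn).trans (map_zero _)
  apply hg'
  rw [Ideal.Quotient.eq_zero_iff_mem]
  refine Ideal.IsPrime.mem_of_pow_mem (I := p) inferInstance n ?_
  show algebraMap B Q (g ^ n) ∈ P
  rw [hw, Submodule.mem_colon_singleton, Submodule.mem_bot]
  refine Subtype.ext ?_
  show algebraMap B Q (g ^ n) • (w : Q ⊗[B] M) = 0
  rw [algebraMap_smul, ← hw₁, ← map_smul, hgw, map_zero]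

end GrothLib.Separ
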