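import Groth.Agent.Lib.Separ.Descend
import Mathlib.RingTheory.Filtration
import Mathlib.RingTheory.LocalRing.ResidueField.Ideal

/-!
# Separating families: the fibrewise criterion (EGA IV 11.10.9)
-/

set_option autoImplicit false
set_option linter.style.haveILetI false
universe u

namespace GrothLib.Separ

open TensorProduct

variable {A B M : Type u} [CommRing A] [CommRing B] [Algebra A B] [AddCommGroup M] [Module B M]
  [Module A M] [IsScalarTower A B M] {ι : Type u} {N : ι → Type u} [∀ j, AddCommGroup (N j)]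
  [∀ j, Module B (N j)] [∀ j, Module A (N j)] [∀ j, IsScalarTower A B (N j)]

/-- Multiplication by the elements of an ideal. -/
noncomputable def mulI (M : Type u) [AddCommGroup M] [Module B M] [Module A M] [IsScalarTower A B M]
    (J : Ideal A) : M ⊗[A] J →ₗ[B] M :=
  (AlgebraTensorModule.rid A B M).toLinearMap ∘ₗ AlgebraTensorModule.lTensor B M J.subtype

theorem mulI_tmul (J : Ideal A) (m : M) (a : J) : mulI (B := B) M J (m ⊗ₜ a) = (a : A) • m := by
  simp [mulI]

/-- **The diagram chase**: modulo `K ⊗ J` the kernel of the family on `J • M` is killed. -/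
theorem exists_pow_smul_lTensor_eq_zero (ψ : ∀ j, M →ₗ[B] N j) (h : B) (J : Ideal A)
    (hN : ∀ j, Module.Flat A (N j)) (K : Type u) [CommRing K] [Algebra A K] [Module.Free K (K ⊗[A] J)]
    (hK : ∀ c : M ⊗[A] K, (∀ j, ∃ n : ℕ, h ^ n • AlgebraTensorModule.rTensor A K (ψ j) c = 0) →
      ∃ n : ℕ, h ^ n • c = 0)
    (w : M ⊗[A] J) (hw : ∀ j, ∃ n : ℕ, h ^ n • ψ j (mulI (B := B) M J w) = 0) :
    ∃ n : ℕ, h ^ n • AlgebraTensorModule.lTensor B M (TensorProduct.mk A K J 1) w = 0 := by
  classical
  let b := Module.Free.chooseBasis K (K ⊗[A] J)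
  let r : J →ₗ[A] (Module.Free.ChooseBasisIndex K (K ⊗[A] J) →₀ K) :=
    (b.repr.restrictScalars A).toLinearMap ∘ₗ TensorProduct.mk A K J 1
  let x := TensorProduct.finsuppRight A B M K _ (AlgebraTensorModule.lTensor B M r w)
  have hψw : ∀ j, ∃ n : ℕ, h ^ n • AlgebraTensorModule.rTensor A J (ψ j) w = 0 := by
    intro j
    obtain ⟨n, hn⟩ := hw j
    haveI := hN j
    refine ⟨n, ?_⟩
    have hnat : ∀ v, mulI (B := B) (N j) J (AlgebraTensorModule.rTensor A J (ψ j) v) =
        ψ j (mulI (B := B) M J v) := fun v => by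
      induction v using TensorProduct.induction_on with
      | zero => simp
      | add a b ha hb => simp only [map_add, ha, hb]
      | tmul m a => simp [mulI, LinearMap.map_smul_of_tower]
    have hinj : Function.Injective (mulI (B := B) (N j) J) :=
      (AlgebraTensorModule.rid A B (N j)).injective.comp
        (Module.Flat.lTensor_preserves_injective_linearMap (M := N j) J.subtype Subtype.val_injective)
    refine hinj ?_
    rw [map_smul, hnat, hn, map_zero]
  have hx : ∀ e, ∃ n : ℕ, h ^ n • x e = 0 := fun e => hK (x e) fun j => by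
    obtain ⟨n, hn⟩ := hψw j
    refine ⟨n, ?_⟩
    have hnat : AlgebraTensorModule.rTensor A K (ψ j) (x e) = TensorProduct.finsuppRight A B (N j) K _
        (AlgebraTensorModule.lTensor B (N j) r (AlgebraTensorModule.rTensor A J (ψ j) w)) e := by
      show AlgebraTensorModule.rTensor A K (ψ j)
        (TensorProduct.finsuppRight A B M K _ (AlgebraTensorModule.lTensor B M r w) e) = _
      clear hw hn hψw x
      induction w using TensorProduct.induction_on with
      | zero => simp
      | add a b ha hb => simp only [map_add, Finsupp.add_apply, ha, hb]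
      | tmul m a => simp
    rw [hnat, ← Finsupp.smul_apply, ← map_smul, ← map_smul, hn, map_zero, map_zero, Finsupp.zero_apply]
  choose n hn using hx
  refine ⟨x.support.sup n, ?_⟩
  have h1 : h ^ x.support.sup n • x = 0 := Finsupp.ext fun e => by
    rw [Finsupp.smul_apply, Finsupp.zero_apply]
    by_cases he : e ∈ x.support
    · rw [← Nat.sub_add_cancel (Finset.le_sup (f := n) he), pow_add, mul_smul, hn, smul_zero]
    · rw [Finsupp.notMem_support_iff.mp he, smul_zero]
  have h2 : h ^ x.support.sup n • AlgebraTensorModule.lTensor B M r w = 0 :=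
    (TensorProduct.finsuppRight A B M K _).injective (by rw [map_smul, map_zero]; exact h1)
  have h3 : ∀ v, AlgebraTensorModule.lTensor B M r v =
      (b.repr.restrictScalars A).toLinearMap.lTensor M
        (AlgebraTensorModule.lTensor B M (TensorProduct.mk A K J 1) v) := fun v => by
    induction v using TensorProduct.induction_on with
    | zero => simp
    | add a b ha hb => simp only [map_add, ha, hb]
    | tmul m a => simp [r]
  refine ((b.repr.restrictScalars A).lTensor M).injective ?_
  rw [map_zero]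
  refine Eq.trans ?_ h2
  rw [← map_smul, ← map_smul, h3]
  rfl

/-- Kernel of base change to the residue field of a prime. -/
theorem exists_smul_mem_of_residueField (p : Ideal A) [p.IsPrime] {X : Type u} [AddCommGroup X]
    [Module A X] (x : X) (hx : (1 : p.ResidueField) ⊗ₜ[A] x = 0) :
    ∃ a ∉ p, a • x ∈ p • (⊤ : Submodule A X) := by
  let L : X ⧸ (p • (⊤ : Submodule A X)) →ₗ[A ⧸ p] p.ResidueField ⊗[A ⧸ p] (X ⧸ (p • (⊤ : Submodule A X))) :=
    TensorProduct.mk (A ⧸ p) p.ResidueField _ 1
  haveI : IsLocalizedModule (nonZeroDivisors (A ⧸ p)) L :=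
    (isLocalizedModule_iff_isBaseChange _ p.ResidueField L).mpr (TensorProduct.isBaseChange (A ⧸ p) _ _)
  let q : p.ResidueField ⊗[A] X →ₗ[A] p.ResidueField ⊗[A ⧸ p] (X ⧸ (p • (⊤ : Submodule A X))) :=
    TensorProduct.lift <| LinearMap.mk₂ A (fun c y => c ⊗ₜ Submodule.Quotient.mk y)
      (fun c d y => add_tmul c d _) (fun a c y => rfl) (fun c y z => by rw [Submodule.Quotient.mk_add, tmul_add])
      (fun a c y => by
        rw [Submodule.Quotient.mk_smul, tmul_smul])
  have h1 : L (Submodule.Quotient.mk x) = 0 := by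
    show q (1 ⊗ₜ[A] x) = 0
    rw [hx, map_zero]
  obtain ⟨⟨s, hs⟩, hs'⟩ := (IsLocalizedModule.eq_zero_iff (nonZeroDivisors (A ⧸ p)) L).mp h1
  obtain ⟨a, rfl⟩ := Ideal.Quotient.mk_surjective s
  refine ⟨a, fun ha => nonZeroDivisors.ne_zero hs (Ideal.Quotient.eq_zero_iff_mem.mpr ha), ?_⟩
  rw [← Submodule.Quotient.mk_eq_zero, Submodule.Quotient.mk_smul]
  exact hs'

theorem mulI_mem (J I : Ideal A) {v : M ⊗[A] J} (hv : v ∈ I • (⊤ : Submodule A (M ⊗[A] J))) :
    mulI (B := B) M J v ∈ (I * J) • (⊤ : Submodule A M) := by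
  induction hv using Submodule.smul_induction_on' with
  | smul a ha y _ =>
    rw [LinearMap.map_smul_of_tower]
    rename_i hy
    clear hy
    induction y using TensorProduct.induction_on with
    | zero => simp
    | add c d hc hd => rw [map_add, smul_add]; exact Submodule.add_mem _ hc hd
    | tmul m b =>
      rw [mulI_tmul, smul_smul]
      exact Submodule.smul_mem_smul (Ideal.mul_mem_mul ha b.2) trivial
  | add x _ y _ hx hy => rw [map_add]; exact Submodule.add_mem _ hx hy

theorem exists_mulI_eq (J : Ideal A) {x : M} (hx : x ∈ J • (⊤ : Submodule A M)) :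
    ∃ w : M ⊗[A] J, mulI (B := B) M J w = x := by
  induction hx using Submodule.smul_induction_on' with
  | smul a ha y _ => exact ⟨y ⊗ₜ ⟨a, ha⟩, mulI_tmul J y ⟨a, ha⟩⟩
  | add x _ y _ hx hy =>
    obtain ⟨w, rfl⟩ := hx
    obtain ⟨v, rfl⟩ := hy
    exact ⟨w + v, map_add _ _ _⟩

/-- One step of the filtration at a prime of the base. -/
theorem exists_smul_mem_succ (ψ : ∀ j, M →ₗ[B] N j) (hN : ∀ j, Module.Flat A (N j)) (q : Ideal B)
    [q.IsPrime] {h : B} (hh : h ∉ q)
    (hK : ∀ c : M ⊗[A] (q.comap (algebraMap A B)).ResidueField,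
      (∀ j, ∃ n : ℕ, h ^ n • AlgebraTensorModule.rTensor A _ (ψ j) c = 0) → ∃ n : ℕ, h ^ n • c = 0)
    (k : ℕ) {x : M} (hx : x ∈ (q.comap (algebraMap A B)) ^ k • (⊤ : Submodule A M))
    (hψ : ∀ j, ∃ n : ℕ, h ^ n • ψ j x = 0) :
    ∃ t ∉ q, t • x ∈ (q.comap (algebraMap A B)) ^ (k + 1) • (⊤ : Submodule A M) := by
  let p := q.comap (algebraMap A B)
  obtain ⟨w, rfl⟩ := exists_mulI_eq (B := B) (p ^ k) hx
  obtain ⟨n, hn⟩ := exists_pow_smul_lTensor_eq_zero ψ h (p ^ k) hN p.ResidueField hK w hψ
  have h1 : (1 : p.ResidueField) ⊗ₜ[A] (h ^ n • w) = 0 := by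
    have h2 := congrArg (TensorProduct.leftComm A M p.ResidueField ↥(p ^ k)) hn
    rw [map_zero, ← map_smul] at h2
    refine Eq.trans ?_ h2
    generalize h ^ n • w = v
    induction v using TensorProduct.induction_on with
    | zero => simp
    | add c d hc hd => simp only [tmul_add, map_add, hc, hd]
    | tmul m a => simp
  obtain ⟨a, ha, ha'⟩ := exists_smul_mem_of_residueField p _ h1
  refine ⟨algebraMap A B a * h ^ n, fun hmem => ?_, ?_⟩
  · rcases Ideal.IsPrime.mem_or_mem inferInstance hmem with h' | h'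
    · exact ha h'
    · exact hh (Ideal.IsPrime.mem_of_pow_mem inferInstance n h')
  · have := mulI_mem (B := B) (p ^ k) p ha'
    rw [LinearMap.map_smul_of_tower, map_smul, ← pow_succ'] at this
    rw [mul_smul, algebraMap_smul]
    exact this

/-- **The fibrewise criterion**: a family into modules flat over the base which separates on every
fibre separates. -/
theorem sep_of_fibres [IsNoetherianRing B] [Module.Finite B M] (ψ : ∀ j, M →ₗ[B] N j)
    (hN : ∀ j, Module.Flat A (N j))
    (hK : ∀ (q : Ideal B) [q.IsPrime] (h : B) (c : M ⊗[A] (q.comap (algebraMap A B)).ResidueField),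
      (∀ j, ∃ n : ℕ, h ^ n • AlgebraTensorModule.rTensor A _ (ψ j) c = 0) → ∃ n : ℕ, h ^ n • c = 0) :
    Sep ψ := by
  intro h x hx
  by_contra hne
  push Not at hne
  have hdisj : Disjoint (((⊥ : Submodule B M).colon {x} : Ideal B) : Set B) (Submonoid.powers h : Set B) := by
    rw [Set.disjoint_right]
    rintro _ ⟨n, rfl⟩ hc
    exact hne n ((Submodule.mem_bot _).mp (Submodule.mem_colon_singleton.mp hc))
  obtain ⟨q, hq, hle, hqd⟩ := Ideal.exists_le_prime_disjoint _ _ hdisj
  have hhq : h ∉ q := fun hmem => Set.disjoint_left.mp hqd hmem (Submonoid.mem_powers h)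
  let p := q.comap (algebraMap A B)
  let Bq := Localization.AtPrime q
  let L := LocalizedModule.mkLinearMap q.primeCompl M
  have hpow : ∀ k : ℕ, ∃ t ∉ q, t • x ∈ p ^ k • (⊤ : Submodule A M) := by
    intro k
    induction k with
    | zero => exact ⟨1, fun h1 => hq.ne_top ((Ideal.eq_top_iff_one q).mpr h1), by simp⟩
    | succ k ih =>
      obtain ⟨t, ht, htx⟩ := ih
      obtain ⟨t', ht', h'⟩ := exists_smul_mem_succ ψ hN q hhq (hK q h) k htx fun j => by
        obtain ⟨n, hn⟩ := hx j
        exact ⟨n, by rw [map_smul, smul_comm, hn, smul_zero]⟩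
      refine ⟨t' * t, fun hmem => ?_, by rw [mul_smul]; exact h'⟩
      rcases hq.mem_or_mem hmem with h' | h'
      · exact ht' h'
      · exact ht h'
  haveI : Module.Finite Bq (LocalizedModule q.primeCompl M) := Module.Finite.of_isLocalizedModule q.primeCompl L
  have hLx : L x = 0 := by
    rw [← Submodule.mem_bot (R := Bq), ← Ideal.iInf_pow_smul_eq_bot_of_isLocalRing (R := Bq)
      (M := LocalizedModule q.primeCompl M) (IsLocalRing.maximalIdeal Bq) (IsLocalRing.maximalIdeal.isMaximal Bq).ne_top]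
    rw [Submodule.mem_iInf]
    intro k
    obtain ⟨t, ht, htx⟩ := hpow k
    have hmem : ∀ y ∈ p ^ k • (⊤ : Submodule A M),
        L y ∈ IsLocalRing.maximalIdeal Bq ^ k • (⊤ : Submodule Bq (LocalizedModule q.primeCompl M)) := by
      intro y hy
      induction hy using Submodule.smul_induction_on' with
      | smul a ha z _ =>
        rw [← algebraMap_smul B a z, map_smul, ← algebraMap_smul Bq (algebraMap A B a) (L z)]
        refine Submodule.smul_mem_smul ?_ trivial
        have h1 : algebraMap B Bq (algebraMap A B a) ∈ (q ^ k).map (algebraMap B Bq) :=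
          Ideal.mem_map_of_mem _ (Ideal.le_comap_pow (algebraMap A B) k ha)
        rwa [Ideal.map_pow, Localization.AtPrime.map_eq_maximalIdeal] at h1
      | add a _ b _ ha hb => rw [map_add]; exact Submodule.add_mem _ ha hb
    have h2 := hmem _ htx
    rw [map_smul, ← algebraMap_smul Bq t (L x)] at h2
    obtain ⟨v, hv⟩ := (IsLocalization.map_units Bq (⟨t, ht⟩ : q.primeCompl))
    have h3 := Submodule.smul_mem _ (↑v⁻¹ : Bq) h2
    rwa [show algebraMap B Bq t = (v : Bq) from hv.symm, smul_smul, Units.inv_mul, one_smul] at h3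
  obtain ⟨⟨s, hs⟩, hsx⟩ := (IsLocalizedModule.eq_zero_iff q.primeCompl L).mp hLx
  exact hs (hle (Submodule.mem_colon_singleton.mpr ((Submodule.mem_bot _).mpr hsx)))

/-- **Reduction modulo a nilpotent ideal with free graded pieces.** -/
theorem inj_of_isNilpotent (ψ : ∀ j, M →ₗ[B] N j) (hN : ∀ j, Module.Flat A (N j)) (J : Ideal A)
    (hJ : IsNilpotent J) (hfree : ∀ k : ℕ, Module.Free (A ⧸ J) ((A ⧸ J) ⊗[A] ↥(J ^ k)))
    (hK : ∀ c : M ⊗[A] (A ⧸ J), (∀ j, AlgebraTensorModule.rTensor A (A ⧸ J) (ψ j) c = 0) → c = 0) :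
    Inj ψ := by
  intro x hx
  obtain ⟨m, hm⟩ := hJ
  suffices ∀ k : ℕ, x ∈ J ^ k • (⊤ : Submodule A M) by
    simpa [hm] using this m
  intro k
  induction k with
  | zero => simp
  | succ k ih =>
    obtain ⟨w, hw⟩ := exists_mulI_eq (B := B) (J ^ k) ih
    haveI := hfree k
    obtain ⟨n, hn⟩ := exists_pow_smul_lTensor_eq_zero ψ 1 (J ^ k) hN (A ⧸ J) (fun c hc => ⟨0, by
      rw [pow_zero, one_smul]
      refine hK c fun j => ?_
      obtain ⟨n, hn⟩ := hc j
      rwa [one_pow, one_smul] at hn⟩) w fun j => ⟨0, by rw [pow_zero, one_smul, hw]; exact hx j⟩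
    rw [one_pow, one_smul] at hn
    have h2 : (1 : A ⧸ J) ⊗ₜ[A] w = 0 := by
      have h1 := congrArg (TensorProduct.leftComm A M (A ⧸ J) ↥(J ^ k)) hn
      rw [map_zero] at h1
      refine Eq.trans ?_ h1
      clear hw hn h1
      induction w using TensorProduct.induction_on with
      | zero => simp
      | add c d hc hd => simp only [tmul_add, map_add, hc, hd]
      | tmul m a => simp
    have h3 := congrArg (TensorProduct.quotTensorEquivQuotSMul (M ⊗[A] ↥(J ^ k)) J) h2
    rw [map_zero, show (1 : A ⧸ J) = Ideal.Quotient.mk J 1 from rfl,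
      TensorProduct.quotTensorEquivQuotSMul_mk_tmul, one_smul, Submodule.Quotient.mk_eq_zero] at h3
    rw [← hw, pow_succ']
    exact mulI_mem (J ^ k) J h3

end GrothLib.Separ
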