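import Groth.Agent.Lib.Separ.Transport
import Groth.Agent.Lib.FppfSource.Model
import Groth.Agent.Lib.FamCycFlat.Main
import Mathlib.RingTheory.FinitePresentation
import Mathlib.RingTheory.RingHom.Flat
import Mathlib.RingTheory.Spectrum.Prime.Topology

/-!
# Separating families and base change: descent to finite stages (EGA IV 11.9.5, 11.9.7)
-/

set_option autoImplicit false
set_option linter.style.haveILetI false
universe u

namespace GrothLib.Separ

open TensorProduct

variable {B M : Type u} [CommRing B] [AddCommGroup M] [Module B M] {ι : Type u} {N : ι → Type u}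
  [∀ j, AddCommGroup (N j)] [∀ j, Module B (N j)] {ψ : ∀ j, M →ₗ[B] N j}

theorem exists_fg_range {R₀ : Type u} (C₀ : Type u) [CommRing R₀] [CommRing C₀] [Algebra R₀ C₀]
    [Module R₀ M] (w : C₀ ⊗[R₀] M) :
    ∃ M₀ : Submodule R₀ M, M₀.FG ∧ w ∈ LinearMap.range (M₀.subtype.lTensor C₀) := by
  induction w using TensorProduct.induction_on with
  | zero => exact ⟨⊥, Submodule.fg_bot, Submodule.zero_mem _⟩
  | tmul c m =>
    exact ⟨Submodule.span R₀ {m}, Submodule.fg_span_singleton m,
      ⟨c ⊗ₜ ⟨m, Submodule.mem_span_singleton_self m⟩, rfl⟩⟩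
  | add a b ha hb =>
    obtain ⟨A₁, hA₁, a, rfl⟩ := ha
    obtain ⟨A₂, hA₂, b, rfl⟩ := hb
    refine ⟨A₁ ⊔ A₂, hA₁.sup hA₂, ⟨(Submodule.inclusion le_sup_left).lTensor C₀ a +
      (Submodule.inclusion le_sup_right).lTensor C₀ b, ?_⟩⟩
    rw [map_add, ← LinearMap.comp_apply, ← LinearMap.comp_apply, ← LinearMap.lTensor_comp,
      ← LinearMap.lTensor_comp, Submodule.subtype_comp_inclusion, Submodule.subtype_comp_inclusion]

set_option maxHeartbeats 1000000 in
/-- **A separating family stays jointly injective after a flat base change of finite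
presentation.** -/
theorem Sep.inj_baseChange_of_flat_fp (hψ : Sep ψ) (C : Type u) [CommRing C] [Algebra B C]
    [Algebra.FinitePresentation B C] [Module.Flat B C] : Inj fun j => (ψ j).baseChange C := by
  obtain ⟨R₄, C₀, _, _, hR₄, hflat, hfp, ⟨σ⟩⟩ := FppfSource.exists_flat_algebra_model B C
  haveI : Algebra.FiniteType ℤ R₄ := (Subalgebra.fg_iff_finiteType R₄).mp hR₄
  haveI : IsNoetherianRing R₄ := Algebra.FiniteType.isNoetherianRing ℤ R₄
  haveI : IsScalarTower R₄ B M := IsScalarTower.of_algebraMap_smul fun _ _ => rfl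
  haveI : ∀ j, IsScalarTower R₄ B (N j) := fun j => IsScalarTower.of_algebraMap_smul fun _ _ => rfl
  let eM : C ⊗[B] M ≃ₗ[B] M ⊗[R₄] C₀ := TensorProduct.comm B C M ≪≫ₗ σ.toLinearEquiv.lTensor M ≪≫ₗ
    TensorProduct.AlgebraTensorModule.cancelBaseChange R₄ B B M C₀
  intro z hz
  obtain ⟨M₀, hM₀, w, hw⟩ := exists_fg_range C₀ (TensorProduct.comm R₄ M C₀ (eM z))
  haveI : Module.Finite R₄ M₀ := Module.Finite.iff_fg.mpr hM₀
  let ψ₀ : ∀ j, M₀ →ₗ[R₄] N j := fun j => ((ψ j).restrictScalars R₄).comp M₀.subtype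
  have hψ₀ : Sep ψ₀ := fun g x hx => by
    obtain ⟨n, hn⟩ := hψ (g : B) (x : M) hx
    exact ⟨n, Subtype.ext hn⟩
  have hw0 : w = 0 := eq_zero_of_flat_finiteType hψ₀ C₀ w fun j => by
    let eN : C ⊗[B] N j ≃ₗ[B] N j ⊗[R₄] C₀ := TensorProduct.comm B C (N j) ≪≫ₗ
      σ.toLinearEquiv.lTensor (N j) ≪≫ₗ TensorProduct.AlgebraTensorModule.cancelBaseChange R₄ B B (N j) C₀
    have hnat : ∀ v, TensorProduct.comm R₄ (N j) C₀ (eN ((ψ j).baseChange C v)) =
        ((ψ j).restrictScalars R₄).lTensor C₀ (TensorProduct.comm R₄ M C₀ (eM v)) := fun v => by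
      induction v using TensorProduct.induction_on with
      | zero => simp
      | add a b ha hb => simp only [map_add, ha, hb]
      | tmul c m =>
        simp only [eM, eN, LinearMap.baseChange_tmul, LinearEquiv.trans_apply, comm_tmul,
          LinearEquiv.lTensor_tmul]
        generalize σ.toLinearEquiv c = d
        induction d using TensorProduct.induction_on with
        | zero => simp
        | add a b ha hb => simp only [tmul_add, map_add, ha, hb]
        | tmul a b =>
          simp only [AlgebraTensorModule.cancelBaseChange_tmul, comm_tmul, LinearMap.lTensor_tmul,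
            LinearMap.coe_restrictScalars, map_smul]
    show (ψ₀ j).lTensor C₀ w = 0
    rw [LinearMap.lTensor_comp, LinearMap.comp_apply, hw, ← hnat, hz, map_zero, map_zero]
  rw [hw0, map_zero] at hw
  exact eM.injective ((TensorProduct.comm R₄ M C₀).injective (by rw [← hw, map_zero, map_zero]))

/-- **A separating family stays separating after a flat base change of finite presentation.** -/
theorem Sep.baseChange_of_flat_fp (hψ : Sep ψ) (C : Type u) [CommRing C] [Algebra B C]
    [Algebra.FinitePresentation B C] [Module.Flat B C] : SepBC ψ C :=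
  sep_of_inj_localization ψ fun g => by
    haveI : Algebra.FinitePresentation C (Localization.Away g) :=
      IsLocalization.Away.finitePresentation g
    haveI : Algebra.FinitePresentation B (Localization.Away g) :=
      Algebra.FinitePresentation.trans B C _
    haveI : Module.Flat C (Localization.Away g) := IsLocalization.flat _ (Submonoid.powers g)
    haveI : Module.Flat B (Localization.Away g) := Module.Flat.trans B C _
    exact hψ.inj_baseChange_of_flat_fp _

/-- A point of the spectrum of an Artinian ring is cut out by one element, with local localisation. -/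
theorem exists_isLocalRing_away [IsArtinianRing B] (m : PrimeSpectrum B) :
    ∃ g ∉ m.asIdeal, IsLocalRing (Localization.Away g) := by
  obtain ⟨_, ⟨g, rfl⟩, hgm, hsub⟩ := PrimeSpectrum.isTopologicalBasis_basic_opens.exists_subset_of_mem_open
    (Set.mem_singleton m) (isOpen_discrete ({m} : Set (PrimeSpectrum B)))
  refine ⟨g, hgm, ?_⟩
  haveI : Nontrivial (Localization.Away g) :=
    ⟨⟨1, 0, fun h => by
      obtain ⟨⟨_, n, rfl⟩, hn⟩ := (IsLocalization.map_eq_zero_iff (Submonoid.powers g)
        (Localization.Away g) 1).mp (by rw [map_one]; exact h)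
      rw [mul_one] at hn
      exact hgm (Ideal.IsPrime.mem_of_pow_mem inferInstance n
        (show g ^ n ∈ m.asIdeal by rw [show g ^ n = 0 from hn]; exact m.asIdeal.zero_mem))⟩⟩
  obtain ⟨Q, hQ⟩ := Ideal.exists_maximal (Localization.Away g)
  refine IsLocalRing.of_unique_max_ideal ⟨Q, hQ, fun Q' hQ' => ?_⟩
  have h1 : ∀ P : PrimeSpectrum (Localization.Away g),
      PrimeSpectrum.comap (algebraMap B (Localization.Away g)) P = m := fun P => hsub (by
    show _ ∈ (PrimeSpectrum.basicOpen g : Set (PrimeSpectrum B))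
    rw [← PrimeSpectrum.localization_away_comap_range (Localization.Away g) g]
    exact ⟨P, rfl⟩)
  have h2 := PrimeSpectrum.localization_comap_injective (Localization.Away g) (Submonoid.powers g)
    ((h1 ⟨Q', hQ'.isPrime⟩).trans (h1 ⟨Q, hQ.isPrime⟩).symm)
  exact congrArg PrimeSpectrum.asIdeal h2

/-- **A separating family over an Artinian ring stays jointly injective after flat base change.** -/
theorem Sep.inj_baseChange_of_flat_artinian [IsArtinianRing B] (hψ : Sep ψ) (Q : Type u) [CommRing Q]
    [Algebra B Q] [Module.Flat B Q] : Inj fun j => (ψ j).baseChange Q := by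
  intro z hz
  let a : Ideal B := (⊥ : Submodule B (Q ⊗[B] M)).colon {z}
  suffices a = ⊤ by
    have h1 : (1 : B) ∈ a := this ▸ Submodule.mem_top
    simpa [a, Submodule.mem_colon_singleton] using h1
  by_contra hne
  obtain ⟨P, hP, hle⟩ := Ideal.exists_le_maximal _ hne
  obtain ⟨g, hg, hloc⟩ := exists_isLocalRing_away (B := B) ⟨P, hP.isPrime⟩
  haveI := hloc
  haveI : IsArtinianRing (Localization.Away g) :=
    IsArtinianRing.localization_artinian (Submonoid.powers g) _
  haveI : Module.Free (Localization.Away g) (Localization.Away g ⊗[B] Q) := FamCycFlat.free_of_flat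
  obtain ⟨n, hn⟩ := pow_smul_eq_zero_of_free hψ g (C := Localization.Away g) Q z hz
  refine hg (hP.isPrime.mem_of_pow_mem n (hle ?_))
  rw [Submodule.mem_colon_singleton, Submodule.mem_bot, ← algebraMap_smul Q (g ^ n), map_pow]
  exact hn

section Stage

variable {A : Type u} [CommRing A] [Algebra A B]

theorem exists_stage (R : Type u) [CommRing R] [Algebra A R] (h : B ⊗[A] R) :
    ∃ s : Finset R, ∀ R₀ : Subalgebra A R, (↑s : Set R) ⊆ R₀ →
      h ∈ Set.range (Algebra.TensorProduct.map (AlgHom.id B B) R₀.val) := by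
  classical
  induction h using TensorProduct.induction_on with
  | zero => exact ⟨∅, fun _ _ => ⟨0, map_zero _⟩⟩
  | tmul b r => exact ⟨{r}, fun R₀ hR₀ => ⟨b ⊗ₜ ⟨r, hR₀ (by simp)⟩, rfl⟩⟩
  | add a b ha hb =>
    obtain ⟨s, hs⟩ := ha
    obtain ⟨t, ht⟩ := hb
    refine ⟨s ∪ t, fun R₀ hR₀ => ?_⟩
    rw [Finset.coe_union, Set.union_subset_iff] at hR₀
    obtain ⟨x, hx⟩ := hs R₀ hR₀.1
    obtain ⟨y, hy⟩ := ht R₀ hR₀.2
    exact ⟨x + y, by rw [map_add, hx, hy]⟩

variable [∀ j, Module A (N j)] [∀ j, IsScalarTower A B (N j)]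

set_option maxHeartbeats 1000000 in
/-- **Reduction of a base change to the finitely generated subalgebras.** -/
theorem sep_baseChange_of_forall_fg (hN : ∀ j, Module.Flat A (N j)) (R : Type u) [CommRing R]
    [Algebra A R]
    (H : ∀ R₀ : Subalgebra A R, R₀.FG → SepBC ψ (B ⊗[A] R₀)) : SepBC ψ (B ⊗[A] R) := by
  classical
  intro h z hz
  obtain ⟨s, hs⟩ := exists_stage R h
  obtain ⟨t, ht⟩ : ∃ t : Finset R, ∀ R₀ : Subalgebra A R, (↑t : Set R) ⊆ R₀ →
      z ∈ Set.range ((Algebra.TensorProduct.map (AlgHom.id B B) R₀.val).toLinearMap.rTensor M) := by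
    clear hz
    induction z using TensorProduct.induction_on with
    | zero => exact ⟨∅, fun _ _ => ⟨0, map_zero _⟩⟩
    | tmul c m =>
      obtain ⟨t, ht⟩ := exists_stage R c
      refine ⟨t, fun R₀ hR₀ => ?_⟩
      obtain ⟨x, rfl⟩ := ht R₀ hR₀
      exact ⟨x ⊗ₜ m, rfl⟩
    | add a b ha hb =>
      obtain ⟨t₁, ht₁⟩ := ha
      obtain ⟨t₂, ht₂⟩ := hb
      refine ⟨t₁ ∪ t₂, fun R₀ hR₀ => ?_⟩
      rw [Finset.coe_union, Set.union_subset_iff] at hR₀
      obtain ⟨x, hx⟩ := ht₁ R₀ hR₀.1
      obtain ⟨y, hy⟩ := ht₂ R₀ hR₀.2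
      exact ⟨x + y, by rw [map_add, hx, hy]⟩
  let R₀ : Subalgebra A R := Algebra.adjoin A ↑(s ∪ t)
  have hsub : (↑s : Set R) ⊆ R₀ ∧ (↑t : Set R) ⊆ R₀ := by
    rw [← Set.union_subset_iff, ← Finset.coe_union]
    exact Algebra.subset_adjoin
  obtain ⟨h₀, rfl⟩ := hs R₀ hsub.1
  obtain ⟨z₀, rfl⟩ := ht R₀ hsub.2
  let φ := Algebra.TensorProduct.map (AlgHom.id B B) R₀.val
  have hsl : ∀ (V : Type u) [AddCommGroup V] [Module B V] (a : B ⊗[A] R₀) (x : (B ⊗[A] R₀) ⊗[B] V),
      φ.toLinearMap.rTensor V (a • x) = φ a • φ.toLinearMap.rTensor V x := fun V _ _ a x => by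
    induction x using TensorProduct.induction_on with
    | zero => simp
    | add c d hc hd => simp only [map_add, smul_add, hc, hd]
    | tmul c v => simp [TensorProduct.smul_tmul']
  have hnat : ∀ j x, φ.toLinearMap.rTensor (N j) ((ψ j).baseChange (B ⊗[A] R₀) x) =
      (ψ j).baseChange (B ⊗[A] R) (φ.toLinearMap.rTensor M x) := fun j x => by
    induction x using TensorProduct.induction_on with
    | zero => simp
    | add c d hc hd => simp only [map_add, hc, hd]
    | tmul c v => simp
  have hinj : ∀ j, Function.Injective (φ.toLinearMap.rTensor (N j)) := fun j => by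
    let e : ∀ (S : Type u) [CommRing S] [Algebra A S], (B ⊗[A] S) ⊗[B] N j ≃ₗ[B] N j ⊗[A] S :=
      fun S _ _ => TensorProduct.comm B _ _ ≪≫ₗ AlgebraTensorModule.cancelBaseChange A B B (N j) S
    have he : ∀ x, e R (φ.toLinearMap.rTensor (N j) x) = R₀.val.toLinearMap.lTensor (N j) (e R₀ x) := fun x => by
      induction x using TensorProduct.induction_on with
      | zero => simp
      | add c d hc hd => simp only [map_add, hc, hd]
      | tmul c v =>
        induction c using TensorProduct.induction_on with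
        | zero => simp
        | add c d hc hd => simp only [add_tmul, map_add, hc, hd]
        | tmul b r => simp [e, φ]
    haveI := hN j
    intro x y hxy
    exact (e R₀).injective (Module.Flat.lTensor_preserves_injective_linearMap (M := N j)
      R₀.val.toLinearMap Subtype.val_injective (by rw [← he, ← he, hxy]))
  obtain ⟨n, hn⟩ := H R₀ ⟨s ∪ t, rfl⟩ h₀ z₀ fun j => by
    obtain ⟨n, hn⟩ := hz j
    refine ⟨n, hinj j ?_⟩
    rw [hsl, map_pow, hnat, map_zero]
    exact hn
  exact ⟨n, by rw [← map_pow, ← hsl, hn, map_zero]⟩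

end Stage

/-- **Over a field every base change of a separating family is separating.** -/
theorem Sep.baseChange_of_field {k : Type u} [Field k] [Algebra k B] (hψ : Sep ψ) (R : Type u)
    [CommRing R] [Algebra k R] : SepBC ψ (B ⊗[k] R) := by
  letI : ∀ j, Module k (N j) := fun j => Module.compHom (N j) (algebraMap k B)
  haveI : ∀ j, IsScalarTower k B (N j) := fun j => IsScalarTower.of_algebraMap_smul fun _ _ => rfl
  refine sep_baseChange_of_forall_fg (fun j => inferInstance) R fun R₀ hR₀ => ?_
  haveI : Algebra.FiniteType k R₀ := (Subalgebra.fg_iff_finiteType R₀).mp hR₀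
  haveI : Algebra.FinitePresentation k R₀ := Algebra.FinitePresentation.of_finiteType.mp inferInstance
  exact hψ.baseChange_of_flat_fp _

end GrothLib.Separ
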