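import Groth.Agent.Lib.Separ.Geom

/-!
# Schematically dominant families of morphisms
-/

set_option autoImplicit false
set_option backward.isDefEq.respectTransparency false
set_option linter.style.haveILetI false
universe u

open CategoryTheory AlgebraicGeometry Opposite TopologicalSpace TensorProduct

namespace GrothLib.Separ

variable {X : Scheme.{u}} {ι : Type u} {Z : ι → Scheme.{u}} (f : ∀ i, Z i ⟶ X)

/-- The family is schematically dominant. -/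
def Dominant : Prop := ∀ (V : X.Opens) (t : Γ(X, V)), (∀ i, (f i).app V t = 0) → t = 0

/-- The affine charts of the members over an open of the target. -/
def Charts (U : X.Opens) : Type u :=
  Σ i, {W : (Z i).Opens // IsAffineOpen W ∧ W ≤ f i ⁻¹ᵁ U}

/-- The sections on a chart. -/
def Chart (U : X.Opens) (j : Charts f U) : Type u := Γ(Z j.1, j.2.1)

noncomputable instance (U : X.Opens) (j : Charts f U) : CommRing (Chart f U j) :=
  inferInstanceAs (CommRing Γ(Z j.1, j.2.1))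

noncomputable instance (U : X.Opens) (j : Charts f U) : Algebra Γ(X, U) (Chart f U j) :=
  ((f j.1).appLE U j.2.1 j.2.2.2).hom.toAlgebra

/-- The restrictions of functions to the charts. -/
noncomputable def chartMap (U : X.Opens) : ∀ j, Γ(X, U) →ₗ[Γ(X, U)] Chart f U j :=
  fun j => Algebra.linearMap Γ(X, U) (Chart f U j)

theorem map_basicOpen_sec_eq_zero {T : Scheme.{u}} {U : T.Opens} (g : Γ(T, U)) (n : ℕ) (t : Γ(T, U))
    (h : g ^ n * t = 0) : T.presheaf.map (homOfLE (T.basicOpen_le g)).op t = 0 := by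
  have h1 := congrArg (T.presheaf.map (homOfLE (T.basicOpen_le g)).op) h
  rw [map_zero, map_mul, map_pow] at h1
  have hu : IsUnit (T.presheaf.map (homOfLE (T.basicOpen_le g)).op g) :=
    RingedSpace.isUnit_res_basicOpen T.toRingedSpace g
  exact (hu.pow n).mul_right_eq_zero.mp h1

/-- A function on a basic open vanishing on the charts of an open cover pulls back to zero. -/
theorem app_basicOpen_eq_zero {Y T : Scheme.{u}} (φ : T ⟶ Y) {U : Y.Opens} (g x : Γ(Y, U)) {κ : Type*}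
    (W : κ → T.Opens) (hW : ∀ k, W k ≤ φ ⁻¹ᵁ U) (hcov : φ ⁻¹ᵁ U ≤ ⨆ k, W k)
    (h : ∀ k, ∃ n : ℕ, φ.appLE U (W k) (hW k) g ^ n * φ.appLE U (W k) (hW k) x = 0) :
    φ.app (Y.basicOpen g) (Y.presheaf.map (homOfLE (Y.basicOpen_le g)).op x) = 0 := by
  have hle : ∀ k, T.basicOpen (φ.appLE U (W k) (hW k) g) ≤ φ ⁻¹ᵁ Y.basicOpen g := fun k => by
    rw [Scheme.Hom.appLE, CommRingCat.comp_apply, Scheme.basicOpen_res, Scheme.preimage_basicOpen]
    exact inf_le_right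
  refine TopCat.Sheaf.eq_of_locally_eq' T.sheaf (fun k => T.basicOpen (φ.appLE U (W k) (hW k) g)) _
    (fun k => homOfLE (hle k)) (fun z hz => ?_) _ 0 fun k => ?_
  · have hz' : φ z ∈ Y.basicOpen g := hz
    obtain ⟨k, hk⟩ := Opens.mem_iSup.mp (hcov (show z ∈ φ ⁻¹ᵁ U from Y.basicOpen_le g hz'))
    refine Opens.mem_iSup.mpr ⟨k, ?_⟩
    rw [Scheme.Hom.appLE, CommRingCat.comp_apply, Scheme.basicOpen_res, ← Scheme.preimage_basicOpen]
    exact ⟨hk, hz'⟩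
  · obtain ⟨n, hn⟩ := h k
    refine (?_ : _ = _).trans (map_zero (T.presheaf.map (homOfLE (hle k)).op).hom).symm
    rw [← map_basicOpen_sec_eq_zero _ n _ hn]
    show (Y.presheaf.map (homOfLE (Y.basicOpen_le g)).op ≫ φ.app (Y.basicOpen g) ≫ T.presheaf.map _).hom x = _
    rw [Scheme.Hom.app_eq_appLE, Scheme.Hom.appLE_map, Scheme.Hom.map_appLE]
    show _ = (φ.appLE U (W k) (hW k) ≫ T.presheaf.map _).hom x
    rw [Scheme.Hom.appLE_map]

/-- A dominant family separates the functions on an affine open. -/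
theorem sep_chartMap (U : X.Opens) (h : Dominant f) (hU : IsAffineOpen U) : Sep (chartMap f U) := by
  intro g x hx
  have h0 : X.presheaf.map (homOfLE (X.basicOpen_le g)).op x = 0 := h _ _ fun i => by
    refine app_basicOpen_eq_zero (f i) g x
      (fun W : {W : (Z i).Opens // IsAffineOpen W ∧ W ≤ f i ⁻¹ᵁ U} => W.1) (fun W => W.2.2)
      (fun z hz => ?_) fun W => ?_
    · obtain ⟨W, hW, hzW, hWU⟩ := exists_isAffineOpen_mem_and_subset (x := z) (U := f i ⁻¹ᵁ U) hz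
      exact Opens.mem_iSup.mpr ⟨⟨W, hW, hWU⟩, hzW⟩
    · obtain ⟨n, hn⟩ := hx ⟨i, W⟩
      refine ⟨n, ?_⟩
      rw [← map_pow]
      exact hn
  obtain ⟨n, hn⟩ := exists_pow_mul_eq_zero_of_res_basicOpen_eq_zero_of_isAffineOpen X hU x g h0
  exact ⟨n, hn⟩

/-- Dominance is checked on a basis. -/
theorem dominant_of_basis
    (hB : ∀ (x : X) (O : X.Opens), x ∈ O → ∃ P : X.Opens, x ∈ P ∧ P ≤ O ∧
      ∀ t : Γ(X, P), (∀ i, (f i).app P t = 0) → t = 0) : Dominant f := by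
  intro V t ht
  choose P hxP hPV hP using fun x : V => hB x.1 V x.2
  refine TopCat.Sheaf.eq_of_locally_eq' X.sheaf P V (fun x => homOfLE (hPV x))
    (fun y hy => Opens.mem_iSup.mpr ⟨⟨y, hy⟩, hxP ⟨y, hy⟩⟩) t 0 fun x => ?_
  refine (hP x _ fun i => ?_).trans (map_zero (X.presheaf.map (homOfLE (hPV x)).op).hom).symm
  show (X.presheaf.map (homOfLE (hPV x)).op ≫ (f i).app (P x)).hom t = 0
  rw [Scheme.Hom.naturality]
  exact (congrArg ((Z i).presheaf.map _) (ht i)).trans (map_zero _)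

variable {X' : Scheme.{u}} {g : X' ⟶ X} {Z' : ι → Scheme.{u}} {f' : ∀ i, Z' i ⟶ X'}
  {q : ∀ i, Z' i ⟶ Z i} (sq : ∀ i, IsPullback (q i) (f' i) (f i) g)

include sq in
/-- Sections of the base change of a chart. -/
theorem exists_chart_equiv {U : X.Opens} {P : X'.Opens} (hU : IsAffineOpen U) (hP : IsAffineOpen P)
    (e : P ≤ g ⁻¹ᵁ U) [Algebra Γ(X, U) Γ(X', P)]
    (halg : algebraMap Γ(X, U) Γ(X', P) = (g.appLE U P e).hom) (j : Charts f U) :
    ∃ E : Γ(X', P) ⊗[Γ(X, U)] Chart f U j ≃+* Γ(Z' j.1, q j.1 ⁻¹ᵁ j.2.1 ⊓ f' j.1 ⁻¹ᵁ P),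
      ∀ x, E (x ⊗ₜ 1) = (f' j.1).appLE P (q j.1 ⁻¹ᵁ j.2.1 ⊓ f' j.1 ⁻¹ᵁ P) inf_le_right x := by
  obtain ⟨i, W, hW, hWU⟩ := j
  let Q := q i ⁻¹ᵁ W ⊓ f' i ⁻¹ᵁ P
  letI : Algebra Γ(X', P) Γ(Z' i, Q) := ((f' i).appLE P Q inf_le_right).hom.toAlgebra
  letI : Algebra (Chart f U ⟨i, W, hW, hWU⟩) Γ(Z' i, Q) := ((q i).appLE W Q inf_le_left).hom.toAlgebra
  letI : Algebra Γ(X, U) Γ(Z' i, Q) := (((f' i).appLE P Q inf_le_right).hom.comp (algebraMap Γ(X, U) Γ(X', P))).toAlgebra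
  haveI : IsScalarTower Γ(X, U) Γ(X', P) Γ(Z' i, Q) := IsScalarTower.of_algebraMap_eq fun _ => rfl
  haveI : IsScalarTower Γ(X, U) (Chart f U ⟨i, W, hW, hWU⟩) Γ(Z' i, Q) :=
    IsScalarTower.of_algebraMap_eq fun a => by
      show (f' i).appLE P Q inf_le_right (algebraMap Γ(X, U) Γ(X', P) a) =
        (q i).appLE W Q inf_le_left ((f i).appLE U W hWU a)
      rw [halg]
      show (g.appLE U P e ≫ (f' i).appLE P Q inf_le_right).hom a =
        ((f i).appLE U W hWU ≫ (q i).appLE W Q inf_le_left).hom a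
      rw [Scheme.Hom.appLE_comp_appLE, Scheme.Hom.appLE_comp_appLE]
      simp only [(sq i).w]
  haveI : Algebra.IsPushout Γ(X, U) Γ(X', P) (Chart f U ⟨i, W, hW, hWU⟩) Γ(Z' i, Q) :=
    letI : Algebra Γ(X, U) Γ(Z i, W) := ((f i).appLE U W hWU).hom.toAlgebra
    letI : Algebra Γ(Z i, W) Γ(Z' i, Q) := ((q i).appLE W Q inf_le_left).hom.toAlgebra
    haveI : IsScalarTower Γ(X, U) Γ(Z i, W) Γ(Z' i, Q) := IsScalarTower.of_algebraMap_eq
      (IsScalarTower.algebraMap_apply Γ(X, U) (Chart f U ⟨i, W, hW, hWU⟩) Γ(Z' i, Q))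
    FlatLimit.isPushout_square (sq i) e hWU hU hP hW halg rfl rfl rfl
  refine ⟨(Algebra.IsPushout.equiv Γ(X, U) Γ(X', P) (Chart f U ⟨i, W, hW, hWU⟩) Γ(Z' i, Q)).toRingEquiv,
    fun x => ?_⟩
  show Algebra.IsPushout.equiv Γ(X, U) Γ(X', P) (Chart f U ⟨i, W, hW, hWU⟩) Γ(Z' i, Q) (x ⊗ₜ 1) = _
  rw [Algebra.IsPushout.equiv_tmul, map_one, mul_one]
  rfl

include sq in
/-- Injectivity on an affine open of the base change. -/
theorem eq_zero_of_injBC {U : X.Opens} {P : X'.Opens} (hU : IsAffineOpen U) (hP : IsAffineOpen P)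
    (e : P ≤ g ⁻¹ᵁ U) [Algebra Γ(X, U) Γ(X', P)]
    (halg : algebraMap Γ(X, U) Γ(X', P) = (g.appLE U P e).hom)
    (h : InjBC (chartMap f U) Γ(X', P)) (x : Γ(X', P)) (hx : ∀ i, (f' i).app P x = 0) : x = 0 := by
  have h1 := h (x ⊗ₜ 1) fun j => by
    obtain ⟨E, hE⟩ := exists_chart_equiv f sq hU hP e halg j
    apply E.injective
    rw [map_zero, LinearMap.baseChange_tmul, chartMap, Algebra.linearMap_apply, map_one, hE,
      Scheme.Hom.appLE, CommRingCat.comp_apply, hx, map_zero]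
  have h2 := congrArg (TensorProduct.rid Γ(X, U) Γ(X', P)) h1
  rwa [TensorProduct.rid_tmul, one_smul, map_zero] at h2

include sq in
/-- A dominant base change separates the base change of the functions. -/
theorem sepBC_chartMap {U : X.Opens} {P : X'.Opens} (hU : IsAffineOpen U) (hP : IsAffineOpen P)
    (e : P ≤ g ⁻¹ᵁ U) [Algebra Γ(X, U) Γ(X', P)]
    (halg : algebraMap Γ(X, U) Γ(X', P) = (g.appLE U P e).hom) (h : Dominant f') :
    SepBC (chartMap f U) Γ(X', P) := by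
  intro h₀ z hz
  obtain ⟨x, rfl⟩ := (TensorProduct.rid Γ(X, U) Γ(X', P)).symm.surjective z
  rw [TensorProduct.rid_symm_apply] at hz ⊢
  have h0 : X'.presheaf.map (homOfLE (X'.basicOpen_le h₀)).op x = 0 := h _ _ fun i => by
    refine app_basicOpen_eq_zero (f' i) h₀ x
      (fun W : {W : (Z i).Opens // IsAffineOpen W ∧ W ≤ f i ⁻¹ᵁ U} => q i ⁻¹ᵁ W.1 ⊓ f' i ⁻¹ᵁ P)
      (fun W => inf_le_right) (fun z hz => ?_) fun W => ?_
    · have hzU : q i z ∈ f i ⁻¹ᵁ U := by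
        show f i (q i z) ∈ U
        rw [← Scheme.Hom.comp_apply, (sq i).w, Scheme.Hom.comp_apply]
        exact e hz
      obtain ⟨W, hW, hzW, hWU⟩ := exists_isAffineOpen_mem_and_subset (x := q i z) (U := f i ⁻¹ᵁ U) hzU
      exact Opens.mem_iSup.mpr ⟨⟨W, hW, hWU⟩, hzW, hz⟩
    · obtain ⟨n, hn⟩ := hz ⟨i, W⟩
      refine ⟨n, ?_⟩
      obtain ⟨E, hE⟩ := exists_chart_equiv f sq hU hP e halg ⟨i, W⟩
      rw [← map_pow, ← map_mul, ← hE]
      refine Eq.trans ?_ ((congrArg E hn).trans (map_zero E))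
      congr 1
      rw [LinearMap.baseChange_tmul, chartMap, Algebra.linearMap_apply, map_one, TensorProduct.smul_tmul',
        smul_eq_mul]
  obtain ⟨n, hn⟩ := exists_pow_mul_eq_zero_of_res_basicOpen_eq_zero_of_isAffineOpen X' hP x h₀ h0
  exact ⟨n, by rw [TensorProduct.smul_tmul', smul_eq_mul, hn, TensorProduct.zero_tmul]⟩

section Square

variable {S S' : Scheme.{u}} {p : X ⟶ S} {p₂ : X' ⟶ S'} {σ : S' ⟶ S} (sqX : IsPullback g p₂ p σ)

include sqX in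
/-- Sections on an affine square. -/
theorem exists_square_equiv {S₀ : S.Opens} {U : X.Opens} {W : S'.Opens} (hS₀ : IsAffineOpen S₀)
    (hU : IsAffineOpen U) (hW : IsAffineOpen W) (eU : U ≤ p ⁻¹ᵁ S₀) (eW : W ≤ σ ⁻¹ᵁ S₀) :
    letI := (p.appLE S₀ U eU).hom.toAlgebra
    letI := (σ.appLE S₀ W eW).hom.toAlgebra
    letI := (g.appLE U (g ⁻¹ᵁ U ⊓ p₂ ⁻¹ᵁ W) inf_le_left).hom.toAlgebra
    Nonempty (Γ(X, U) ⊗[Γ(S, S₀)] Γ(S', W) ≃ₐ[Γ(X, U)] Γ(X', g ⁻¹ᵁ U ⊓ p₂ ⁻¹ᵁ W)) := by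
  let P := g ⁻¹ᵁ U ⊓ p₂ ⁻¹ᵁ W
  letI : Algebra Γ(S, S₀) Γ(X, U) := (p.appLE S₀ U eU).hom.toAlgebra
  letI : Algebra Γ(S, S₀) Γ(S', W) := (σ.appLE S₀ W eW).hom.toAlgebra
  letI : Algebra Γ(X, U) Γ(X', P) := (g.appLE U P inf_le_left).hom.toAlgebra
  letI : Algebra Γ(S', W) Γ(X', P) := (p₂.appLE W P inf_le_right).hom.toAlgebra
  letI : Algebra Γ(S, S₀) Γ(X', P) := ((g.appLE U P inf_le_left).hom.comp (p.appLE S₀ U eU).hom).toAlgebra
  haveI : IsScalarTower Γ(S, S₀) Γ(X, U) Γ(X', P) := IsScalarTower.of_algebraMap_eq fun _ => rfl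
  haveI : IsScalarTower Γ(S, S₀) Γ(S', W) Γ(X', P) := IsScalarTower.of_algebraMap_eq fun a => by
    show (p.appLE S₀ U eU ≫ g.appLE U P inf_le_left).hom a = (σ.appLE S₀ W eW ≫ p₂.appLE W P inf_le_right).hom a
    rw [Scheme.Hom.appLE_comp_appLE, Scheme.Hom.appLE_comp_appLE]
    simp only [sqX.w]
  haveI : Algebra.IsPushout Γ(S, S₀) Γ(S', W) Γ(X, U) Γ(X', P) :=
    FlatLimit.isPushout_square sqX eW eU hS₀ hW hU rfl rfl rfl rfl
  haveI : Algebra.IsPushout Γ(S, S₀) Γ(X, U) Γ(S', W) Γ(X', P) := Algebra.IsPushout.symm inferInstance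
  exact ⟨Algebra.IsPushout.equiv Γ(S, S₀) Γ(X, U) Γ(S', W) Γ(X', P)⟩

include sq sqX in
/-- **A base change is dominant if it separates the tensor products of functions.** -/
theorem dominant_of_square
    (H : ∀ (S₀ : S.Opens) (U : X.Opens) (W : S'.Opens), IsAffineOpen S₀ → IsAffineOpen U →
      IsAffineOpen W → ∀ (eU : U ≤ p ⁻¹ᵁ S₀) (eW : W ≤ σ ⁻¹ᵁ S₀),
        letI := (p.appLE S₀ U eU).hom.toAlgebra
        letI := (σ.appLE S₀ W eW).hom.toAlgebra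
        SepBC (chartMap f U) (Γ(X, U) ⊗[Γ(S, S₀)] Γ(S', W))) :
    Dominant f' := by
  refine dominant_of_basis _ fun y O hy => ?_
  obtain ⟨S₀, hS₀, hyS, -⟩ := exists_isAffineOpen_mem_and_subset (x := p (g y)) (U := ⊤) trivial
  obtain ⟨U, hU, hyU, hUS⟩ := exists_isAffineOpen_mem_and_subset (x := g y) (U := p ⁻¹ᵁ S₀) hyS
  obtain ⟨W, hW, hyW, hWS⟩ := exists_isAffineOpen_mem_and_subset (x := p₂ y) (U := σ ⁻¹ᵁ S₀)
    (show σ (p₂ y) ∈ S₀ by
      rw [← Scheme.Hom.comp_apply, ← sqX.w, Scheme.Hom.comp_apply]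
      exact hyS)
  let P := g ⁻¹ᵁ U ⊓ p₂ ⁻¹ᵁ W
  have hP : IsAffineOpen P := FlatLimit.isAffineOpen_square sqX hWS hUS hS₀ hW hU
  obtain ⟨h, hhO, hyh⟩ := hP.exists_basicOpen_le (⟨y, hy⟩ : O) ⟨hyU, hyW⟩
  have hhP : X'.basicOpen h ≤ P := X'.basicOpen_le h
  letI : Algebra Γ(X, U) Γ(X', P) := (g.appLE U P inf_le_left).hom.toAlgebra
  obtain ⟨E⟩ := exists_square_equiv sqX hS₀ hU hW hUS hWS
  have hsep : SepBC (chartMap f U) Γ(X', P) := Sep.baseChange_congr _ E (H S₀ U W hS₀ hU hW hUS hWS)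
  letI : Algebra Γ(X', P) Γ(X', X'.basicOpen h) := (X'.presheaf.map (homOfLE hhP).op).hom.toAlgebra
  haveI : IsLocalization.Away h Γ(X', X'.basicOpen h) := hP.isLocalization_basicOpen h
  letI : Algebra Γ(X, U) Γ(X', X'.basicOpen h) :=
    (g.appLE U (X'.basicOpen h) (hhP.trans inf_le_left)).hom.toAlgebra
  haveI : IsScalarTower Γ(X, U) Γ(X', P) Γ(X', X'.basicOpen h) := IsScalarTower.of_algebraMap_eq fun a => by
    show (g.appLE U (X'.basicOpen h) _).hom a = (g.appLE U P inf_le_left ≫ X'.presheaf.map (homOfLE hhP).op).hom a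
    rw [Scheme.Hom.appLE_map]
  exact ⟨X'.basicOpen h, hyh, hhO, eq_zero_of_injBC f sq hU (hP.basicOpen h) _ rfl
    (hsep.inj_localization _ h Γ(X', X'.basicOpen h))⟩

end Square

open Limits in
/-- The squares of a base change of a morphism over a base. -/
theorem isPullback_map {T X S S' : Scheme.{u}} (a : T ⟶ X) (p : X ⟶ S) (σ : S' ⟶ S)
    (a' : pullback (a ≫ p) σ ⟶ pullback p σ)
    (h₁ : a' ≫ pullback.fst p σ = pullback.fst (a ≫ p) σ ≫ a)
    (h₂ : a' ≫ pullback.snd p σ = pullback.snd (a ≫ p) σ) :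
    IsPullback (pullback.fst (a ≫ p) σ) a' a (pullback.fst p σ) :=
  (IsPullback.of_right (by rw [h₂]; exact (IsPullback.of_hasPullback (a ≫ p) σ).flip) h₁
    (IsPullback.of_hasPullback p σ).flip).flip

end GrothLib.Separ
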