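import Groth.Agent.Lib.Separ.Descend
import Groth.Agent.Lib.QCoh.PullbackSections
import Groth.Agent.Lib.FlatLimit.Geometric

/-!
# Separating families of homomorphisms of quasi-coherent modules
-/

set_option autoImplicit false
set_option backward.isDefEq.respectTransparency false
set_option linter.style.haveILetI false
universe u

open CategoryTheory AlgebraicGeometry Opposite TopologicalSpace TensorProduct

namespace GrothLib.Separ

open GrothLib.QCoh (appLinear)

variable {X : Scheme.{u}} {F : X.Modules} {ι : Type u} {G : ι → X.Modules} (u : ∀ i, F ⟶ G i)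

/-- The family is separating. -/
def Separated : Prop :=
  ∀ (V : X.Opens) (t : ↑(F.presheaf.obj (op V))),
    (∀ i, (Scheme.Modules.Hom.mapPresheaf (u i)).app (op V) t = 0) → t = 0

theorem app_map {W V : X.Opens} (h : W ≤ V) (i : ι) (t : Γ(F, V)) :
    (u i).app W (F.presheaf.map (homOfLE h).op t) = (G i).presheaf.map (homOfLE h).op ((u i).app V t) :=
  congr($((Scheme.Modules.Hom.mapPresheaf (u i)).naturality (homOfLE h).op) t)

theorem map_basicOpen_eq_zero (M : X.Modules) {U : X.Opens} (g : Γ(X, U)) (n : ℕ) (t : Γ(M, U))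
    (h : g ^ n • t = 0) : M.presheaf.map (homOfLE (X.basicOpen_le g)).op t = 0 := by
  have h1 := congrArg (M.presheaf.map (homOfLE (X.basicOpen_le g)).op) h
  rw [map_zero, Scheme.Modules.map_smul, map_pow] at h1
  have hu : IsUnit (X.presheaf.map (homOfLE (X.basicOpen_le g)).op g) :=
    RingedSpace.isUnit_res_basicOpen X.toRingedSpace g
  exact ((hu.pow n).smul_eq_zero
    (x := M.presheaf.map (homOfLE (X.basicOpen_le g)).op t)).mp h1

/-- A separating family separates the sections on an affine open. -/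
theorem sep_sections [F.IsQuasicoherent] {U : X.Opens} (hU : IsAffineOpen U) (h : Separated u) :
    Sep fun i => appLinear (u i) U := by
  intro g x hx
  refine (QCoh.smulLift_and_smulSep_of_isAffineOpen hU F g).2 x (h _ _ fun i => ?_)
  obtain ⟨n, hn⟩ := hx i
  exact (app_map u (X.basicOpen_le g) i x).trans (map_basicOpen_eq_zero (G i) g n _ hn)

/-- Separation is checked on a basis of affine opens. -/
theorem separated_of_basis
    (hB : ∀ (x : X) (O : X.Opens), x ∈ O → ∃ P : X.Opens, x ∈ P ∧ P ≤ O ∧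
      Inj fun i => appLinear (u i) P) : Separated u := by
  intro V t ht
  choose P hxP hPV hP using fun x : V => hB x.1 V x.2
  refine TopCat.Sheaf.eq_of_locally_eq' ⟨F.presheaf, F.isSheaf⟩ P V (fun x => homOfLE (hPV x))
    (fun y hy => Opens.mem_iSup.mpr ⟨⟨y, hy⟩, hxP ⟨y, hy⟩⟩) t 0 fun x => ?_
  refine (hP x _ fun i => ?_).trans (map_zero (F.presheaf.map (homOfLE (hPV x)).op).hom).symm
  show (u i).app (P x) (F.presheaf.map (homOfLE (hPV x)).op t) = 0
  rw [app_map, show (u i).app V t = 0 from ht i, map_zero]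

variable {Y : Scheme.{u}} (f : Y ⟶ X)

/-- The family of inverse images. -/
noncomputable abbrev pullbackFamily : ∀ i, (Scheme.Modules.pullback f).obj F ⟶
    (Scheme.Modules.pullback f).obj (G i) := fun i => (Scheme.Modules.pullback f).map (u i)

variable [F.IsQuasicoherent] [∀ i, (G i).IsQuasicoherent]

/-- Joint injectivity on an affine open of the source. -/
theorem inj_pullback_sections {U : X.Opens} {P : Y.Opens} (hU : IsAffineOpen U) (hP : IsAffineOpen P)
    (e : P ≤ f ⁻¹ᵁ U) [Algebra Γ(X, U) Γ(Y, P)] (halg : algebraMap Γ(X, U) Γ(Y, P) = (f.appLE U P e).hom)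
    (h : InjBC (fun i => appLinear (u i) U) Γ(Y, P)) :
    Inj fun i => appLinear (pullbackFamily u f i) P := by
  intro t ht
  obtain ⟨z, rfl⟩ := (QCoh.bijective_sectionsMap f F e halg hU hP).2 t
  rw [h z fun i => (QCoh.bijective_sectionsMap f (G i) e halg hU hP).1 (by
    rw [← QCoh.sectionsMap_natural, map_zero]
    exact ht i), map_zero]

omit [∀ i, (G i).IsQuasicoherent] in
/-- A separating inverse image gives a separating base change of sections. -/
theorem sepBC_sections {U : X.Opens} {P : Y.Opens} (hU : IsAffineOpen U) (hP : IsAffineOpen P)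
    (e : P ≤ f ⁻¹ᵁ U) [Algebra Γ(X, U) Γ(Y, P)] (halg : algebraMap Γ(X, U) Γ(Y, P) = (f.appLE U P e).hom)
    (h : Separated (pullbackFamily u f)) : SepBC (fun i => appLinear (u i) U) Γ(Y, P) := by
  haveI : ((Scheme.Modules.pullback f).obj F).IsQuasicoherent := FittSheaf.isQuasicoherent_pullback f F
  intro g z hz
  obtain ⟨n, hn⟩ := sep_sections (pullbackFamily u f) hP h g (QCoh.sectionsMap f F e halg z) fun i => by
    obtain ⟨n, hn⟩ := hz i
    refine ⟨n, ?_⟩
    rw [QCoh.sectionsMap_natural, ← map_smul, hn, map_zero]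
  exact ⟨n, (QCoh.bijective_sectionsMap f F e halg hU hP).1 (by rw [map_smul, hn, map_zero])⟩

variable {X' S S' : Scheme.{u}} {p₁ : X' ⟶ X} {p₂ : X' ⟶ S'} {p : X ⟶ S} {g : S' ⟶ S}
  (sq : IsPullback p₁ p₂ p g)

include sq in
set_option maxHeartbeats 1000000 in
/-- **A base change is separating if it is separating on the tensor products of sections.** -/
theorem separated_pullback_of_square
    (H : ∀ (S₀ : S.Opens) (U : X.Opens) (W : S'.Opens), IsAffineOpen S₀ → IsAffineOpen U →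
      IsAffineOpen W → ∀ (eU : U ≤ p ⁻¹ᵁ S₀) (eW : W ≤ g ⁻¹ᵁ S₀),
        letI := (p.appLE S₀ U eU).hom.toAlgebra
        letI := (g.appLE S₀ W eW).hom.toAlgebra
        SepBC (fun i => appLinear (u i) U) (Γ(X, U) ⊗[Γ(S, S₀)] Γ(S', W))) :
    Separated (pullbackFamily u p₁) := by
  refine separated_of_basis _ fun y O hy => ?_
  obtain ⟨S₀, hS₀, hyS, -⟩ := exists_isAffineOpen_mem_and_subset (x := p (p₁ y)) (U := ⊤) trivial
  obtain ⟨U, hU, hyU, hUS⟩ := exists_isAffineOpen_mem_and_subset (x := p₁ y) (U := p ⁻¹ᵁ S₀) hyS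
  obtain ⟨W, hW, hyW, hWS⟩ := exists_isAffineOpen_mem_and_subset (x := p₂ y) (U := g ⁻¹ᵁ S₀)
    (show g (p₂ y) ∈ S₀ by
      rw [← Scheme.Hom.comp_apply, ← sq.w, Scheme.Hom.comp_apply]
      exact hyS)
  have eU : U ≤ p ⁻¹ᵁ S₀ := hUS
  have eW : W ≤ g ⁻¹ᵁ S₀ := hWS
  let P := p₁ ⁻¹ᵁ U ⊓ p₂ ⁻¹ᵁ W
  have hP : IsAffineOpen P := FlatLimit.isAffineOpen_square sq eW eU hS₀ hW hU
  have hyP : y ∈ P := ⟨hyU, hyW⟩
  obtain ⟨h, hhO, hyh⟩ := hP.exists_basicOpen_le (⟨y, hy⟩ : O) hyP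
  have hhP : X'.basicOpen h ≤ P := X'.basicOpen_le h
  letI : Algebra Γ(S, S₀) Γ(X, U) := (p.appLE S₀ U eU).hom.toAlgebra
  letI : Algebra Γ(S, S₀) Γ(S', W) := (g.appLE S₀ W eW).hom.toAlgebra
  letI : Algebra Γ(X, U) Γ(X', P) := (p₁.appLE U P inf_le_left).hom.toAlgebra
  letI : Algebra Γ(S', W) Γ(X', P) := (p₂.appLE W P inf_le_right).hom.toAlgebra
  letI : Algebra Γ(S, S₀) Γ(X', P) := ((p₁.appLE U P inf_le_left).hom.comp (p.appLE S₀ U eU).hom).toAlgebra
  haveI : IsScalarTower Γ(S, S₀) Γ(X, U) Γ(X', P) := IsScalarTower.of_algebraMap_eq fun _ => rfl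
  haveI : IsScalarTower Γ(S, S₀) Γ(S', W) Γ(X', P) := IsScalarTower.of_algebraMap_eq fun a => by
    show (p.appLE S₀ U eU ≫ p₁.appLE U P inf_le_left).hom a = (g.appLE S₀ W eW ≫ p₂.appLE W P inf_le_right).hom a
    rw [Scheme.Hom.appLE_comp_appLE, Scheme.Hom.appLE_comp_appLE]
    simp only [sq.w]
  haveI : Algebra.IsPushout Γ(S, S₀) Γ(S', W) Γ(X, U) Γ(X', P) :=
    FlatLimit.isPushout_square sq eW eU hS₀ hW hU rfl rfl rfl rfl
  haveI : Algebra.IsPushout Γ(S, S₀) Γ(X, U) Γ(S', W) Γ(X', P) := Algebra.IsPushout.symm inferInstance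
  have hsep : SepBC (fun i => appLinear (u i) U) Γ(X', P) :=
    Sep.baseChange_congr _ (Algebra.IsPushout.equiv Γ(S, S₀) Γ(X, U) Γ(S', W) Γ(X', P))
      (H S₀ U W hS₀ hU hW eU eW)
  letI : Algebra Γ(X', P) Γ(X', X'.basicOpen h) := (X'.presheaf.map (homOfLE hhP).op).hom.toAlgebra
  haveI : IsLocalization.Away h Γ(X', X'.basicOpen h) := hP.isLocalization_basicOpen h
  letI : Algebra Γ(X, U) Γ(X', X'.basicOpen h) :=
    (p₁.appLE U (X'.basicOpen h) (hhP.trans inf_le_left)).hom.toAlgebra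
  haveI : IsScalarTower Γ(X, U) Γ(X', P) Γ(X', X'.basicOpen h) := IsScalarTower.of_algebraMap_eq fun a => by
    show (p₁.appLE U (X'.basicOpen h) _).hom a = (p₁.appLE U P inf_le_left ≫ X'.presheaf.map (homOfLE hhP).op).hom a
    rw [Scheme.Hom.appLE_map]
  exact ⟨X'.basicOpen h, hyh, hhO, inj_pullback_sections u p₁ hU (hP.basicOpen h) _ rfl
    (hsep.inj_localization _ h Γ(X', X'.basicOpen h))⟩

include sq in
set_option maxHeartbeats 1000000 in
/-- A separating base change separates the tensor products of sections. -/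
theorem sepBC_of_square (hsep : Separated (pullbackFamily u p₁)) {S₀ : S.Opens} {U : X.Opens}
    {W : S'.Opens} (hS₀ : IsAffineOpen S₀) (hU : IsAffineOpen U) (hW : IsAffineOpen W)
    (eU : U ≤ p ⁻¹ᵁ S₀) (eW : W ≤ g ⁻¹ᵁ S₀) :
    letI := (p.appLE S₀ U eU).hom.toAlgebra
    letI := (g.appLE S₀ W eW).hom.toAlgebra
    SepBC (fun i => appLinear (u i) U) (Γ(X, U) ⊗[Γ(S, S₀)] Γ(S', W)) := by
  let P := p₁ ⁻¹ᵁ U ⊓ p₂ ⁻¹ᵁ W
  have hP : IsAffineOpen P := FlatLimit.isAffineOpen_square sq eW eU hS₀ hW hU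
  letI : Algebra Γ(S, S₀) Γ(X, U) := (p.appLE S₀ U eU).hom.toAlgebra
  letI : Algebra Γ(S, S₀) Γ(S', W) := (g.appLE S₀ W eW).hom.toAlgebra
  letI : Algebra Γ(X, U) Γ(X', P) := (p₁.appLE U P inf_le_left).hom.toAlgebra
  letI : Algebra Γ(S', W) Γ(X', P) := (p₂.appLE W P inf_le_right).hom.toAlgebra
  letI : Algebra Γ(S, S₀) Γ(X', P) := ((p₁.appLE U P inf_le_left).hom.comp (p.appLE S₀ U eU).hom).toAlgebra
  haveI : IsScalarTower Γ(S, S₀) Γ(X, U) Γ(X', P) := IsScalarTower.of_algebraMap_eq fun _ => rfl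
  haveI : IsScalarTower Γ(S, S₀) Γ(S', W) Γ(X', P) := IsScalarTower.of_algebraMap_eq fun a => by
    show (p.appLE S₀ U eU ≫ p₁.appLE U P inf_le_left).hom a = (g.appLE S₀ W eW ≫ p₂.appLE W P inf_le_right).hom a
    rw [Scheme.Hom.appLE_comp_appLE, Scheme.Hom.appLE_comp_appLE]
    simp only [sq.w]
  haveI : Algebra.IsPushout Γ(S, S₀) Γ(S', W) Γ(X, U) Γ(X', P) :=
    FlatLimit.isPushout_square sq eW eU hS₀ hW hU rfl rfl rfl rfl
  haveI : Algebra.IsPushout Γ(S, S₀) Γ(X, U) Γ(S', W) Γ(X', P) := Algebra.IsPushout.symm inferInstance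
  exact Sep.baseChange_congr _ (Algebra.IsPushout.equiv Γ(S, S₀) Γ(X, U) Γ(S', W) Γ(X', P)).symm
    (sepBC_sections u p₁ hU hP inf_le_left rfl hsep)

end GrothLib.Separ
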