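import Groth.Agent.Lib.Separ.Basic
import Mathlib.RingTheory.IsTensorProduct
import Mathlib.RingTheory.Localization.BaseChange

/-!
# Separating families of linear maps: transport and localisation
-/

set_option autoImplicit false
set_option linter.style.haveILetI false
universe u

namespace GrothLib.Separ

open TensorProduct

variable {B M : Type u} [CommRing B] [AddCommGroup M] [Module B M] {ι : Type u} {N : ι → Type u}
  [∀ j, AddCommGroup (N j)] [∀ j, Module B (N j)]

/-- The family is jointly injective. -/
def Inj (ψ : ∀ j, M →ₗ[B] N j) : Prop := ∀ x : M, (∀ j, ψ j x = 0) → x = 0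

theorem Sep.inj {ψ : ∀ j, M →ₗ[B] N j} (h : Sep ψ) : Inj ψ := fun _ hx => h.eq_zero hx

/-- Transport along a surjective ring map and compatible additive maps. -/
theorem Sep.of_semilinear {B' M' : Type u} [CommRing B'] [AddCommGroup M'] [Module B' M']
    {N' : ι → Type u} [∀ j, AddCommGroup (N' j)] [∀ j, Module B' (N' j)]
    {ψ : ∀ j, M →ₗ[B] N j} {ψ' : ∀ j, M' →ₗ[B'] N' j} (h : Sep ψ)
    (σ : B →+* B') (hσ : Function.Surjective σ)
    (e : M →+ M') (he : Function.Surjective e) (hes : ∀ b x, e (b • x) = σ b • e x)
    (eN : ∀ j, N j →+ N' j) (heN : ∀ j, Function.Injective (eN j))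
    (heNs : ∀ j b x, eN j (b • x) = σ b • eN j x)
    (hc : ∀ j x, eN j (ψ j x) = ψ' j (e x)) : Sep ψ' := by
  intro g x hx
  obtain ⟨g, rfl⟩ := hσ g
  obtain ⟨x, rfl⟩ := he x
  obtain ⟨n, hn⟩ := h g x fun j => by
    obtain ⟨n, hn⟩ := hx j
    refine ⟨n, heN j ?_⟩
    rw [heNs, map_pow, hc, hn, map_zero]
  exact ⟨n, by rw [← map_pow, ← hes, hn, map_zero]⟩

variable (ψ : ∀ j, M →ₗ[B] N j)

/-- The base change of the family is separating. -/
def SepBC (C : Type u) [CommRing C] [Algebra B C] : Prop := Sep fun j => (ψ j).baseChange C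

/-- The base change of the family is jointly injective. -/
def InjBC (C : Type u) [CommRing C] [Algebra B C] : Prop := Inj fun j => (ψ j).baseChange C

/-- Base changes to isomorphic algebras. -/
theorem Sep.baseChange_congr {C C' : Type u} [CommRing C] [Algebra B C] [CommRing C'] [Algebra B C']
    (σ : C ≃ₐ[B] C') (h : Sep fun j => (ψ j).baseChange C) : Sep fun j => (ψ j).baseChange C' := by
  have hs : ∀ (V : Type u) [AddCommGroup V] [Module B V] (c : C) (x : C ⊗[B] V),
      σ.toLinearEquiv.rTensor V (c • x) = σ c • σ.toLinearEquiv.rTensor V x := fun V _ _ c x => by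
    induction x using TensorProduct.induction_on with
    | zero => simp
    | add a b ha hb => simp only [map_add, smul_add, ha, hb]
    | tmul a v => simp [TensorProduct.smul_tmul']
  refine h.of_semilinear σ.toRingEquiv.toRingHom σ.surjective
    (σ.toLinearEquiv.rTensor M).toAddMonoidHom (σ.toLinearEquiv.rTensor M).surjective (hs M)
    (fun j => (σ.toLinearEquiv.rTensor (N j)).toAddMonoidHom)
    (fun j => (σ.toLinearEquiv.rTensor (N j)).injective) (fun j => hs (N j)) fun j x => ?_
  induction x using TensorProduct.induction_on with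
  | zero => simp
  | add a b ha hb => simp only [map_add, ha, hb]
  | tmul a v => simp

/-- An iterated base change is a base change. -/
theorem Sep.baseChange_trans {B₁ B₂ : Type u} [CommRing B₁] [Algebra B B₁] [CommRing B₂] [Algebra B B₂]
    [Algebra B₁ B₂] [IsScalarTower B B₁ B₂]
    (h : Sep fun j => ((ψ j).baseChange B₁).baseChange B₂) : Sep fun j => (ψ j).baseChange B₂ := by
  refine h.of_semilinear (RingHom.id B₂) Function.surjective_id
    (TensorProduct.AlgebraTensorModule.cancelBaseChange B B₁ B₂ B₂ M).toAddMonoidHom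
    (TensorProduct.AlgebraTensorModule.cancelBaseChange B B₁ B₂ B₂ M).surjective (fun b x => LinearEquiv.map_smul _ b x)
    (fun j => (TensorProduct.AlgebraTensorModule.cancelBaseChange B B₁ B₂ B₂ (N j)).toAddMonoidHom)
    (fun j => (TensorProduct.AlgebraTensorModule.cancelBaseChange B B₁ B₂ B₂ (N j)).injective)
    (fun j b x => LinearEquiv.map_smul _ b x) fun j x => ?_
  induction x using TensorProduct.induction_on with
  | zero => simp
  | add a b ha hb => simp only [map_add, ha, hb]
  | tmul a v =>
    induction v using TensorProduct.induction_on with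
    | zero => simp
    | add c d hc hd => simp only [tmul_add, map_add, hc, hd]
    | tmul c m => simp

section Localization

variable {B' : Type u} [CommRing B'] [Algebra B B'] (g₀ : B') (D : Type u) [CommRing D] [Algebra B D]
  [Algebra B' D] [IsScalarTower B B' D] [IsLocalization.Away g₀ D]

include g₀ in
/-- A separating base change stays jointly injective after inverting an element. -/
theorem Sep.inj_localization (h : Sep fun j => (ψ j).baseChange B') :
    Inj fun j => (ψ j).baseChange D := by
  intro z hz
  let L : B' ⊗[B] M →ₗ[B'] D ⊗[B] M := TensorProduct.AlgebraTensorModule.rTensor B M (Algebra.linearMap B' D)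
  let LN : ∀ j, B' ⊗[B] N j →ₗ[B'] D ⊗[B] N j := fun j =>
    TensorProduct.AlgebraTensorModule.rTensor B (N j) (Algebra.linearMap B' D)
  obtain ⟨⟨z', s⟩, hz'⟩ := IsLocalizedModule.surj (Submonoid.powers g₀) L z
  have hnat : ∀ j w, LN j ((ψ j).baseChange B' w) = (ψ j).baseChange D (L w) := fun j w => by
    induction w using TensorProduct.induction_on with
    | zero => simp
    | add a b ha hb => simp only [map_add, ha, hb]
    | tmul a v => simp [L, LN]
  obtain ⟨n, hn⟩ := h g₀ z' fun j => by
    have h1 : LN j ((ψ j).baseChange B' z') = 0 := by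
      rw [hnat, ← hz', LinearMap.map_smul_of_tower, hz, smul_zero]
    obtain ⟨⟨_, n, rfl⟩, hn⟩ := (IsLocalizedModule.eq_zero_iff (Submonoid.powers g₀) (LN j)).mp h1
    exact ⟨n, hn⟩
  have h3 : (s : B') • z = 0 := by
    rw [show (s : B') • z = L z' from hz']
    exact (IsLocalizedModule.eq_zero_iff (Submonoid.powers g₀) L).mpr ⟨⟨_, n, rfl⟩, hn⟩
  exact ((Module.End.isUnit_iff _).mp
    (IsLocalizedModule.map_units (S := Submonoid.powers g₀) L s)).1 (h3.trans (map_zero _).symm)

end Localization

/-- A base change is separating if it is jointly injective after inverting any element. -/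
theorem sep_of_inj_localization {B' : Type u} [CommRing B'] [Algebra B B']
    (h : ∀ g : B', Inj fun j => (ψ j).baseChange (Localization.Away g)) :
    Sep fun j => (ψ j).baseChange B' := by
  intro g z hz
  let D := Localization.Away g
  let L : B' ⊗[B] M →ₗ[B'] D ⊗[B] M := TensorProduct.AlgebraTensorModule.rTensor B M (Algebra.linearMap B' D)
  let LN : ∀ j, B' ⊗[B] N j →ₗ[B'] D ⊗[B] N j := fun j =>
    TensorProduct.AlgebraTensorModule.rTensor B (N j) (Algebra.linearMap B' D)
  have hnat : ∀ j w, LN j ((ψ j).baseChange B' w) = (ψ j).baseChange D (L w) := fun j w => by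
    induction w using TensorProduct.induction_on with
    | zero => simp
    | add a b ha hb => simp only [map_add, ha, hb]
    | tmul a v => simp [L, LN]
  have h1 : L z = 0 := h g (L z) fun j => by
    obtain ⟨n, hn⟩ := hz j
    rw [← hnat]
    exact (IsLocalizedModule.eq_zero_iff (Submonoid.powers g) (LN j)).mpr ⟨⟨_, n, rfl⟩, hn⟩
  obtain ⟨⟨_, n, rfl⟩, hn⟩ := (IsLocalizedModule.eq_zero_iff (Submonoid.powers g) L).mp h1
  exact ⟨n, hn⟩

end GrothLib.Separ
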