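import Groth.Agent.Lib.Separ.Chase
import Mathlib.RingTheory.TensorProduct.Maps

/-!
# Universally separating families: the fibrewise criterion (EGA IV 11.10.9)
-/

set_option autoImplicit false
set_option linter.style.haveILetI false
universe u

namespace GrothLib.Separ

open TensorProduct

variable {A B M : Type u} [CommRing A] [CommRing B] [Algebra A B] [AddCommGroup M] [Module B M]
  [Module A M] [IsScalarTower A B M] {ι : Type u} {N : ι → Type u} [∀ j, AddCommGroup (N j)]
  [∀ j, Module B (N j)] [∀ j, Module A (N j)] [∀ j, IsScalarTower A B (N j)] {ψ : ∀ j, M →ₗ[B] N j}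

attribute [local instance] Algebra.TensorProduct.rightAlgebra

/-- Separation over a field survives field extensions. -/
theorem sepBC_of_field (k K : Type u) [Field k] [Algebra A k] [CommRing K] [Algebra A K] [Algebra k K]
    [IsScalarTower A k K] (h : SepBC ψ (B ⊗[A] k)) : SepBC ψ (B ⊗[A] K) := by
  let e : (B ⊗[A] k) ⊗[k] K ≃+* B ⊗[A] K :=
    (Algebra.TensorProduct.comm k (B ⊗[A] k) K).toRingEquiv.trans
      ((Algebra.TensorProduct.congr (S := k) (AlgEquiv.refl : K ≃ₐ[k] K)
          (Algebra.TensorProduct.commRight A k B).symm).toRingEquiv.trans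
        ((Algebra.TensorProduct.cancelBaseChange A k k K B).toRingEquiv.trans
          (Algebra.TensorProduct.comm A K B).toRingEquiv))
  let eB : (B ⊗[A] k) ⊗[k] K ≃ₐ[B] B ⊗[A] K := AlgEquiv.ofRingEquiv (f := e) fun b => by
    show e ((b ⊗ₜ (1 : k)) ⊗ₜ (1 : K)) = b ⊗ₜ (1 : K)
    simp [e]
  have h1 := Sep.baseChange_of_field (k := k) h K
  exact Sep.baseChange_congr ψ eB (Sep.baseChange_trans ψ h1)

/-- A family with members flat over the base separates a stage once it separates its fibres. -/
theorem sepBC_stage [IsNoetherianRing B] [Module.Finite B M] (hN : ∀ j, Module.Flat A (N j))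
    (R₀ : Type u) [CommRing R₀] [Algebra A R₀] [Algebra.FiniteType A R₀]
    (hK : ∀ (p : Ideal A) [p.IsPrime], SepBC ψ (B ⊗[A] p.ResidueField)) :
    SepBC ψ (B ⊗[A] R₀) := by
  haveI : Algebra.FiniteType B (B ⊗[A] R₀) := inferInstance
  haveI : IsNoetherianRing (B ⊗[A] R₀) := Algebra.FiniteType.isNoetherianRing B _
  haveI : Algebra.IsPushout A R₀ B (B ⊗[A] R₀) := Algebra.IsPushout.symm inferInstance
  letI : ∀ (V : Type u) [AddCommGroup V] [Module B V], Module R₀ ((B ⊗[A] R₀) ⊗[B] V) :=
    fun V _ _ => inferInstance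
  have hflat : ∀ j, Module.Flat R₀ ((B ⊗[A] R₀) ⊗[B] N j) := fun j => by
    haveI := hN j
    exact Module.Flat.of_linearEquiv (Algebra.IsPushout.cancelBaseChange A R₀ B (B ⊗[A] R₀) (N j))
  refine sep_of_fibres (A := R₀) (fun j => (ψ j).baseChange (B ⊗[A] R₀)) hflat fun q hq h c hc => ?_
  let p' := q.comap (algebraMap R₀ (B ⊗[A] R₀))
  let K := p'.ResidueField
  let p := p'.comap (algebraMap A R₀)
  letI : Algebra p.ResidueField K := (Ideal.ResidueField.map p p' (algebraMap A R₀) rfl).toAlgebra
  haveI : IsScalarTower A p.ResidueField K := IsScalarTower.of_algebraMap_eq fun a => by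
    show algebraMap A K a = Ideal.ResidueField.map p p' (algebraMap A R₀) rfl (algebraMap A p.ResidueField a)
    rw [Ideal.ResidueField.map_algebraMap, ← IsScalarTower.algebraMap_apply]
  have hsep := sepBC_of_field (ψ := ψ) p.ResidueField K (hK p)
  let σ : B ⊗[A] R₀ →ₐ[B] B ⊗[A] K :=
    Algebra.TensorProduct.map (AlgHom.id B B) (IsScalarTower.toAlgHom A R₀ K)
  -- the comparison of modules
  let Φ : ∀ (V : Type u) [AddCommGroup V] [Module B V] [Module A V] [IsScalarTower A B V],
      ((B ⊗[A] R₀) ⊗[B] V) ⊗[R₀] K ≃+ (B ⊗[A] K) ⊗[B] V := fun V _ _ _ _ =>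
    (TensorProduct.comm R₀ _ K).toAddEquiv.trans
      (((Algebra.IsPushout.cancelBaseChange A R₀ B (B ⊗[A] R₀) V).lTensor K).toAddEquiv.trans
        ((AlgebraTensorModule.cancelBaseChange A R₀ R₀ K V).toAddEquiv.trans
          ((TensorProduct.comm A K V).toAddEquiv.trans
            ((AlgebraTensorModule.cancelBaseChange A B B V K).symm.toAddEquiv.trans
              (TensorProduct.comm B V (B ⊗[A] K)).toAddEquiv))))
  have hΦ : ∀ (V : Type u) [AddCommGroup V] [Module B V] [Module A V] [IsScalarTower A B V]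
      (b : B) (r : R₀) (v : V) (k : K),
      Φ V (((b ⊗ₜ r) ⊗ₜ v) ⊗ₜ k) = (b ⊗ₜ (r • k)) ⊗ₜ v := fun V _ _ _ _ b r v k => by
    have h1 : ((b ⊗ₜ[A] r) ⊗ₜ[B] v : (B ⊗[A] R₀) ⊗[B] V) = r • ((1 : B ⊗[A] R₀) ⊗ₜ[B] (b • v)) := by
      rw [show (1 : B ⊗[A] R₀) ⊗ₜ[B] (b • v) = (b • (1 : B ⊗[A] R₀)) ⊗ₜ[B] v from (TensorProduct.smul_tmul b _ v).symm,
        show r • ((b • (1 : B ⊗[A] R₀)) ⊗ₜ[B] v) = (r • (b • (1 : B ⊗[A] R₀))) ⊗ₜ[B] v from rfl,
        Algebra.smul_def b, Algebra.smul_def r,
        Algebra.TensorProduct.right_algebraMap_apply]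
      simp
    rw [h1]
    show TensorProduct.comm B V (B ⊗[A] K) ((AlgebraTensorModule.cancelBaseChange A B B V K).symm
      (TensorProduct.comm A K V (AlgebraTensorModule.cancelBaseChange A R₀ R₀ K V
        ((Algebra.IsPushout.cancelBaseChange A R₀ B (B ⊗[A] R₀) V).lTensor K
          (TensorProduct.comm R₀ _ K ((r • ((1 : B ⊗[A] R₀) ⊗ₜ[B] (b • v))) ⊗ₜ[R₀] k)))))) = _
    rw [TensorProduct.comm_tmul, LinearEquiv.lTensor_tmul, map_smul,
      Algebra.IsPushout.cancelBaseChange_tmul, TensorProduct.tmul_smul, map_smul,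
      AlgebraTensorModule.cancelBaseChange_tmul, one_smul,
      show r • (k ⊗ₜ[A] (b • v)) = (r • k) ⊗ₜ[A] (b • v) from rfl, TensorProduct.comm_tmul,
      AlgebraTensorModule.cancelBaseChange_symm_tmul, TensorProduct.comm_tmul,
      ← TensorProduct.smul_tmul b]
    simp [TensorProduct.smul_tmul']
  have hΦs : ∀ (V : Type u) [AddCommGroup V] [Module B V] [Module A V] [IsScalarTower A B V]
      (a : B ⊗[A] R₀) (x : ((B ⊗[A] R₀) ⊗[B] V) ⊗[R₀] K), Φ V (a • x) = σ a • Φ V x := by
    intro V _ _ _ _ a x
    induction x using TensorProduct.induction_on with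
    | zero => simp
    | add c d hc hd => simp only [smul_add, map_add, hc, hd]
    | tmul y k =>
      induction y using TensorProduct.induction_on with
      | zero => simp
      | add c d hc hd => simp only [add_tmul, smul_add, map_add, hc, hd]
      | tmul w v =>
        induction w using TensorProduct.induction_on with
        | zero => simp
        | add c d hc hd => simp only [add_tmul, smul_add, map_add, hc, hd]
        | tmul b r =>
          induction a using TensorProduct.induction_on with
          | zero => simp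
          | add c d hc hd => simp only [add_smul, map_add, hc, hd]
          | tmul b' r' =>
            rw [smul_tmul', smul_tmul', smul_eq_mul, Algebra.TensorProduct.tmul_mul_tmul, hΦ, hΦ,
              smul_tmul', smul_eq_mul]
            simp [σ, Algebra.smul_def, mul_assoc]
  have hΦn : ∀ j x, Φ (N j) (AlgebraTensorModule.rTensor R₀ K ((ψ j).baseChange (B ⊗[A] R₀)) x) =
      (ψ j).baseChange (B ⊗[A] K) (Φ M x) := fun j x => by
    induction x using TensorProduct.induction_on with
    | zero => simp
    | add c d hc hd => simp only [map_add, hc, hd]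
    | tmul y k =>
      induction y using TensorProduct.induction_on with
      | zero => simp
      | add c d hc hd => simp only [add_tmul, map_add, hc, hd]
      | tmul w v =>
        induction w using TensorProduct.induction_on with
        | zero => simp
        | add c d hc hd => simp only [add_tmul, map_add, hc, hd]
        | tmul b r =>
          rw [AlgebraTensorModule.rTensor_tmul, LinearMap.baseChange_tmul, hΦ, hΦ,
            LinearMap.baseChange_tmul]
  obtain ⟨n, hn⟩ := hsep (σ h) (Φ M c) fun j => by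
    obtain ⟨n, hn⟩ := hc j
    refine ⟨n, ?_⟩
    rw [← map_pow, ← hΦn, ← hΦs, hn, map_zero]
  exact ⟨n, (Φ M).injective (by rw [hΦs, map_pow, hn, map_zero])⟩

/-- Separation descends along split injective maps of algebras. -/
theorem sepBC_descend {R R' : Type u} [CommRing R] [Algebra A R] [CommRing R'] [Algebra A R']
    (φ : R →ₐ[A] R') (r : R' →ₗ[A] R) (hr : ∀ x, r (φ x) = x) (h : SepBC ψ (B ⊗[A] R')) :
    SepBC ψ (B ⊗[A] R) := by
  let Φ := Algebra.TensorProduct.map (AlgHom.id B B) φ
  let ρ : B ⊗[A] R' →ₗ[B] B ⊗[A] R := AlgebraTensorModule.lTensor B B r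
  have hρ : ∀ x, ρ (Φ x) = x := fun x => by
    induction x using TensorProduct.induction_on with
    | zero => simp
    | add c d hc hd => simp only [map_add, hc, hd]
    | tmul b y => simp [ρ, Φ, hr]
  have hinj : ∀ (V : Type u) [AddCommGroup V] [Module B V],
      Function.Injective (Φ.toLinearMap.rTensor V) := fun V _ _ => by
    refine Function.LeftInverse.injective (g := ρ.rTensor V) fun x => ?_
    rw [← LinearMap.comp_apply, ← LinearMap.rTensor_comp,
      show ρ ∘ₗ Φ.toLinearMap = LinearMap.id from LinearMap.ext hρ, LinearMap.rTensor_id, LinearMap.id_apply]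
  have hs : ∀ (V : Type u) [AddCommGroup V] [Module B V] (a : B ⊗[A] R) (x : (B ⊗[A] R) ⊗[B] V),
      Φ.toLinearMap.rTensor V (a • x) = Φ a • Φ.toLinearMap.rTensor V x := fun V _ _ a x => by
    induction x using TensorProduct.induction_on with
    | zero => simp
    | add c d hc hd => simp only [map_add, smul_add, hc, hd]
    | tmul c v => simp [TensorProduct.smul_tmul']
  intro g z hz
  obtain ⟨n, hn⟩ := h (Φ g) (Φ.toLinearMap.rTensor M z) fun j => by
    obtain ⟨n, hn⟩ := hz j
    refine ⟨n, ?_⟩
    have hnat : (ψ j).baseChange (B ⊗[A] R') (Φ.toLinearMap.rTensor M z) =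
        Φ.toLinearMap.rTensor (N j) ((ψ j).baseChange (B ⊗[A] R) z) := by
      clear hn hz
      induction z using TensorProduct.induction_on with
      | zero => simp
      | add c d hc hd => simp only [map_add, hc, hd]
      | tmul c v => simp
    rw [hnat, ← map_pow, ← hs, hn, map_zero]
  exact ⟨n, hinj M (by rw [hs, map_pow, hn, map_zero])⟩

/-- Separation over a field extension of the residue field gives separation over the residue
field. -/
theorem sepBC_residueField (p : Ideal A) [p.IsPrime] (K : Type u) [CommRing K] [Algebra A K]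
    (hK : IsField K) (hker : RingHom.ker (algebraMap A K) = p) (h : SepBC ψ (B ⊗[A] K)) :
    SepBC ψ (B ⊗[A] p.ResidueField) := by
  let φ : p.ResidueField →ₐ[A] K := Ideal.ResidueField.liftₐ p (Algebra.ofId A K) hker.ge fun a ha => by
    letI := hK.toField
    exact isUnit_iff_ne_zero.mpr fun h0 => ha (hker.le h0)
  letI : Algebra p.ResidueField K := φ.toRingHom.toAlgebra
  haveI : IsScalarTower A p.ResidueField K := IsScalarTower.of_algebraMap_eq fun a => (φ.commutes a).symm
  haveI : Nontrivial K := hK.nontrivial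
  obtain ⟨r, hr⟩ := (Algebra.linearMap p.ResidueField K).exists_leftInverse_of_injective
    (LinearMap.ker_eq_bot.mpr φ.toRingHom.injective)
  exact sepBC_descend φ (r.restrictScalars A) (fun x => LinearMap.congr_fun hr x) h

/-- **The universal fibrewise criterion.** -/
theorem sepBC_of_fibres [IsNoetherianRing B] [Module.Finite B M] (hN : ∀ j, Module.Flat A (N j))
    (hK : ∀ (p : Ideal A) [p.IsPrime], SepBC ψ (B ⊗[A] p.ResidueField))
    (R : Type u) [CommRing R] [Algebra A R] : SepBC ψ (B ⊗[A] R) :=
  sep_baseChange_of_forall_fg hN R fun R₀ hR₀ =>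
    haveI : Algebra.FiniteType A R₀ := (Subalgebra.fg_iff_finiteType R₀).mp hR₀
    sepBC_stage hN R₀ hK

end GrothLib.Separ
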